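import Groth.Agent.SGA3x.K13.CT.Tors
import Groth.Agent.SGA3x.K16.TorsCent
import Groth.Agent.Sga3B.FpqcLoc
import Groth.Agent.S0084

/-!
# The `n`-torsion of a group of multiplicative type is finite, étale and of multiplicative type
-/

set_option autoImplicit false
universe u
open CategoryTheory MonoidalCategory CartesianMonoidalCategory MonObj GrpObj AlgebraicGeometry Limits

namespace K13.HC.Tors

open Groth.Agent Groth.Agent.Sga3B K13.NTorsion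

variable {S : Scheme.{u}}

lemma isMT_of_FT {T : Over S} [GrpObj T] (h : SGA3x.IsMultTypeFT T) : K7.MTHaar.IsMT T := by
  obtain ⟨S', f, hf1, hf2, hf3, hf⟩ := h
  refine ⟨S', f, hf1, hf2, hf3, fun s' => ?_⟩
  obtain ⟨U, hU, M, i, -, e⟩ := hf s'
  exact ⟨U, hU, M, i, e⟩

theorem mul_comm_of_FT {T : Over S} [GrpObj T] (h : SGA3x.IsMultTypeFT T) (X : Over S)
    (x y : X ⟶ T) : x * y = y * x := mul_comm_of_isMT (isMT_of_FT h) X x y

theorem isMultTypeFT {n : ℕ} {L H : Over S} [GrpObj L] [GrpObj H] {ℓ : L ⟶ H} (h : IsTors n ℓ)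
    (hH : SGA3x.IsMultTypeFT H) : SGA3x.IsMultTypeFT L := by
  obtain ⟨S', f, hf1, hf2, hf3, hf⟩ := hH
  refine ⟨S', f, hf1, hf2, hf3, fun s' => ?_⟩
  obtain ⟨U, hU, M, _, hM, ⟨e⟩⟩ := hf s'
  have hM' := hM
  refine ⟨U, hU, M ⧸ nM n M, inferInstance, ?_, ?_⟩
  · exact AddGroup.fg_of_surjective (f := QuotientAddGroup.mk' (nM n M)) (QuotientAddGroup.mk'_surjective _)
  · exact ((h.bc (U.ι ≫ f)).comp_iso e).iso (isTors_DS _ n M)

theorem isFinite {n : ℕ} (hn : 0 < n) {L H : Over S} [GrpObj L] [GrpObj H] {ℓ : L ⟶ H} (h : IsTors n ℓ)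
    (hH : SGA3x.IsMultTypeFT H) : IsFinite L.hom := by
  obtain ⟨S', f, hf1, hf2, hf3, hf⟩ := hH
  have := S0084.result.{u}
  refine FpqcLoc.of_fpqc_cover (P := @IsFinite) L.hom f hf3 fun s' => ?_
  obtain ⟨U, hU, M, _, hM, ⟨e⟩⟩ := hf s'
  refine ⟨U, hU, ?_⟩
  obtain ⟨e'⟩ := ((h.bc (U.ι ≫ f)).comp_iso e).iso (isTors_DS _ n M)
  have hfin : Finite (M ⧸ nM n M) := K16.TorsGen.finite_Pn M ⟨n, hn⟩
  have h1 : IsFinite (Red.DS U.toScheme (M ⧸ nM n M)).hom := inferInstance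
  let e₂ : Red.bc (U.ι ≫ f) L ≅ Red.DS U.toScheme (M ⧸ nM n M) := (Grp.forget _).mapIso e'
  have h2 : (Red.bc (U.ι ≫ f) L).hom = e₂.hom.left ≫ (Red.DS U.toScheme (M ⧸ nM n M)).hom := (Over.w e₂.hom).symm
  have h3 : IsIso e₂.hom.left := inferInstanceAs (IsIso ((Over.forget _).map e₂.hom))
  change IsFinite (Red.bc (U.ι ≫ f) L).hom
  rw [h2]
  infer_instance

/-- **The `n`-torsion of a group of multiplicative type.** -/
theorem exists_tors {T : Over S} [GrpObj T] (hT : SGA3x.IsMultTypeFT T) (n : ℕ)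
    (hn : ∀ s : S, (n : S.residueField s) ≠ 0) (h0 : 0 < n) :
    ∃ (L : Over S) (_ : GrpObj L) (ℓ : L ⟶ T), IsTors n ℓ ∧ IsClosedImmersion ℓ.left ∧ IsFinite L.hom ∧
      Etale L.hom ∧ SGA3x.IsMultTypeFT L := by
  have haff := K10.MTLoc.isAffineHom hT
  have hfl := K10.MTLoc.flat hT
  have hlfp := K10.MTLoc.locallyOfFinitePresentation hT
  obtain ⟨L, _, ℓ, hℓ, hcl⟩ := K13.NTorsion.exists_tors n (mul_comm_of_FT hT)
  exact ⟨L, inferInstance, ℓ, hℓ, hcl, isFinite h0 hℓ hT,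
    CT.Tors.etale_of_isTors hℓ (mul_comm_of_FT hT) hn, isMultTypeFT hℓ hT⟩

end K13.HC.Tors
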