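import Groth.Agent.SGA3x.K13.HC.FibMain

/-!
# The compactness argument

`H` open in the decreasing family of closed subgroups `Z j` (centralizers of the `q^j`-torsion of a torus), `j ≥ N`.
Every point of the intersection of the `Z j` lies in `H` (`mem_range`), hence `H = Z j` for some `j` (`exists_iso`).
-/

set_option autoImplicit false
universe u
open CategoryTheory MonoidalCategory CartesianMonoidalCategory MonObj GrpObj AlgebraicGeometry Limits

namespace K13.HC.Comp

open Groth.Agent Groth.Agent.Sga3B Groth.Agent.Sga3B.BcPts K13.NTorsion K18.CentQuot IsLocalRing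

/-- A morphism from a reduced scheme whose image lies in a closed subscheme factors through it. -/
theorem exists_lift_of_range {X Y Z : Scheme.{u}} (z : Z ⟶ Y) [IsClosedImmersion z] (x : X ⟶ Y) [IsReduced X]
    (h : Set.range x ⊆ Set.range z) : ∃ y : X ⟶ Z, y ≫ z = x := by
  have hs : Surjective (pullback.snd z x) := ⟨fun p => by
    obtain ⟨p', hp'⟩ := h ⟨p, rfl⟩
    obtain ⟨w, -, hw⟩ := Scheme.Pullback.exists_preimage_pullback (f := z) (g := x) p' p hp'
    exact ⟨w, hw⟩⟩
  have hiso : IsIso (pullback.snd z x) := isIso_of_isClosedImmersion_of_surjective _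
  exact ⟨inv (pullback.snd z x) ≫ pullback.fst z x, by
    rw [Category.assoc, pullback.condition, IsIso.inv_hom_id_assoc]⟩

/-- Residue fields of an algebra in which `q` is invertible. -/
lemma natCast_ne_zero {A : Type u} [CommRing A] {q : ℕ} (hq : IsUnit (q : A)) {K : Type u} [Field K]
    (b : Spec (CommRingCat.of K) ⟶ Spec (CommRingCat.of A)) : (q : K) ≠ 0 := by
  have h1 := hq.map (Spec.preimage b).hom
  rw [map_natCast] at h1
  exact h1.ne_zero

section

variable {A : Type u} [CommRing A] {G T H : Over (Spec (CommRingCat.of A))} [GrpObj G] [GrpObj T] [GrpObj H]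
  [Smooth G.hom] [QuasiCompact G.hom] [GeometricallyIrreducible G.hom] [LocallyOfFiniteType H.hom]
  [QuasiCompact H.hom]

/-- A point lying in all the centralizers of the torsion subgroups lies in `H`. -/
theorem mem_range
    (hT : ∀ (K : Type u) [Field K] [IsAlgClosed K] (b : Spec (CommRingCat.of K) ⟶ Spec (CommRingCat.of A)),
      Red.IsTorus (Red.bc b T))
    (q : ℕ) (hq : q.Prime) (hqA : IsUnit (q : A))
    (F : ℕ → Over (Spec (CommRingCat.of A))) [∀ j, GrpObj (F j)] (hF : ∀ j, Etale (F j).hom)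
    (ℓ : ∀ j, F j ⟶ T) (hℓ : ∀ j, IsTors (q ^ j) (ℓ j))
    (u : ∀ j, F j ⟶ G) (hum : ∀ j, IsMonHom (u j)) (hu : ∀ (j l : ℕ) (f : F j ⟶ F l), f ≫ ℓ l = ℓ j → f ≫ u l = u j)
    (i : H ⟶ G) [IsMonHom i] [Mono i] (hi : ∀ j, Cent (u j) i)
    (Z : ℕ → Over (Spec (CommRingCat.of A))) [∀ j, GrpObj (Z j)] (z : ∀ j, Z j ⟶ G)
    (hz : ∀ j, Red.IsCentralizerOf (u j) (z j)) (hzc : ∀ j, IsClosedImmersion (z j).left)
    (v : ∀ j, H ⟶ Z j) (hv : ∀ j, v j ≫ z j = i) (N : ℕ) (hvo : IsOpenImmersion (v N).left)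
    (x : G.left) (hx : ∀ j, x ∈ Set.range (z j).left) : x ∈ Set.range i.left := by
  let K : Type u := AlgebraicClosure (G.left.residueField x)
  let c : Spec (CommRingCat.of K) ⟶ G.left := Spec.map (CommRingCat.ofHom
    (algebraMap (G.left.residueField x) (AlgebraicClosure (G.left.residueField x)))) ≫ G.left.fromSpecResidueField x
  have hc : ∀ p, c p = x := by
    intro p
    have h1 := Set.mem_range_self (f := G.left.fromSpecResidueField x) (Spec.map (CommRingCat.ofHom
      (algebraMap (G.left.residueField x) (AlgebraicClosure (G.left.residueField x)))) p)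
    rw [Scheme.range_fromSpecResidueField] at h1
    rw [Scheme.Hom.comp_apply]
    exact h1
  let b : Spec (CommRingCat.of K) ⟶ Spec (CommRingCat.of A) := c ≫ G.hom
  let g₁ : (Over.map b).obj (𝟙_ (Over (Spec (CommRingCat.of K)))) ⟶ G := Over.homMk c (by
    change c ≫ G.hom = 𝟙 _ ≫ b
    rw [Category.id_comp])
  have hfac : ∀ j, ∃ y : (Over.map b).obj (𝟙_ (Over (Spec (CommRingCat.of K)))) ⟶ Z j, y ≫ z j = g₁ := by
    intro j
    have := hzc j
    obtain ⟨y, hy⟩ := exists_lift_of_range (z j).left c (by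
      rintro _ ⟨p, rfl⟩
      rw [hc p]
      exact hx j)
    have hw : y ≫ (Z j).hom = c ≫ G.hom := by rw [← hy, Category.assoc, Over.w]
    refine ⟨Over.homMk y ?_, ?_⟩
    · change y ≫ (Z j).hom = 𝟙 _ ≫ b
      rw [hw, Category.id_comp]
    · ext1
      exact hy
  have i1 : Smooth (Red.bc b G).hom := inferInstanceAs (Smooth (pullback.snd _ _))
  have i2 : QuasiCompact (Red.bc b G).hom := inferInstanceAs (QuasiCompact (pullback.snd _ _))
  have i3 : GeometricallyIrreducible (Red.bc b G).hom :=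
    inferInstanceAs (GeometricallyIrreducible (pullback.snd _ _))
  have i4 : LocallyOfFiniteType (Red.bc b H).hom := inferInstanceAs (LocallyOfFiniteType (pullback.snd _ _))
  have i5 : QuasiCompact (Red.bc b H).hom := inferInstanceAs (QuasiCompact (pullback.snd _ _))
  have i6 : IrreducibleSpace (Red.bc b G).left :=
    GeometricallyIrreducible.irreducibleSpace_of_subsingleton (f := (Red.bc b G).hom)
  obtain ⟨h, hh⟩ := FibMain.main (G := Red.bc b G) (T := Red.bc b T) (H := Red.bc b H) (hT K b) q hq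
    (natCast_ne_zero hqA b) (fun j => Red.bc b (F j)) (fun j => by
      have := hF j
      exact inferInstanceAs (Etale (pullback.snd _ _)))
    (fun j => (Over.pullback b).map (ℓ j)) (fun j => (hℓ j).bc b) (fun j => (Over.pullback b).map (u j))
    (fun j => by
      have := hum j
      infer_instance)
    (fun j l f hf => by
      obtain ⟨a, ha⟩ := Stat.exists_incl (hℓ j) (hℓ (j + l)) (pow_dvd_pow q (Nat.le_add_right j l))
      obtain ⟨a', ha'⟩ := Stat.exists_incl (hℓ l) (hℓ (j + l)) (pow_dvd_pow q (Nat.le_add_left l j))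
      have := ((hℓ (j + l)).bc b).mono
      have e1 : f ≫ (Over.pullback b).map a' = (Over.pullback b).map a := by
        rw [← cancel_mono ((Over.pullback b).map (ℓ (j + l))), Category.assoc, ← Functor.map_comp, ha',
          ← Functor.map_comp, ha, hf]
      rw [← hu j _ a ha, ← hu l _ a' ha', Functor.map_comp, Functor.map_comp, ← Category.assoc, e1])
    ((Over.pullback b).map i) (fun j => Stat.cent_bc b (hi j)) N ((Over.pullback b).map (z N))
    (SplitBc264.isCentralizerOf_bc b (hz N)) (SplitBc264.isClosedImmersion_bc b _ (hzc N))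
    ((Over.pullback b).map (v N)) (by rw [← Functor.map_comp, hv])
    (MorphismProperty.of_isPullback (SplitBc264.isPullback_map_left b (v N)) hvo)
    (bcEquiv b _ G g₁) (fun j => by
      obtain ⟨y, hy⟩ := hfac j
      rw [← hy, bcEquiv_comp]
      exact (Stat.cent_bc b (cent_of_isCentralizerOf (hz j))).comp _)
  have e2 : (bcEquiv b _ H).symm h ≫ i = g₁ := by
    rw [← bcEquiv_symm_comp, hh, Equiv.symm_apply_apply]
  have e3 : ((bcEquiv b _ H).symm h).left ≫ i.left = c := congrArg CommaMorphism.left e2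
  refine ⟨((bcEquiv b _ H).symm h).left (closedPoint K), ?_⟩
  rw [← Scheme.Hom.comp_apply, e3, hc]

/-- **`H` is one of the centralizers.** -/
theorem exists_iso
    (hT : ∀ (K : Type u) [Field K] [IsAlgClosed K] (b : Spec (CommRingCat.of K) ⟶ Spec (CommRingCat.of A)),
      Red.IsTorus (Red.bc b T))
    (q : ℕ) (hq : q.Prime) (hqA : IsUnit (q : A))
    (F : ℕ → Over (Spec (CommRingCat.of A))) [∀ j, GrpObj (F j)] (hF : ∀ j, Etale (F j).hom)
    (ℓ : ∀ j, F j ⟶ T) (hℓ : ∀ j, IsTors (q ^ j) (ℓ j))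
    (u : ∀ j, F j ⟶ G) (hum : ∀ j, IsMonHom (u j)) (hu : ∀ (j l : ℕ) (f : F j ⟶ F l), f ≫ ℓ l = ℓ j → f ≫ u l = u j)
    (i : H ⟶ G) [IsMonHom i] [Mono i] (hi : ∀ j, Cent (u j) i)
    (Z : ℕ → Over (Spec (CommRingCat.of A))) [∀ j, GrpObj (Z j)] (z : ∀ j, Z j ⟶ G)
    (hz : ∀ j, Red.IsCentralizerOf (u j) (z j)) (hzc : ∀ j, IsClosedImmersion (z j).left)
    (v : ∀ j, H ⟶ Z j) (hv : ∀ j, v j ≫ z j = i) (N : ℕ) (hvo : ∀ j, N ≤ j → IsOpenImmersion (v j).left) :
    ∃ j, IsIso (v j) := by
  have hcpt : CompactSpace G.left := QuasiCompact.compactSpace_of_compactSpace G.hom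
  have hle : ∀ j l, j ≤ l → Set.range (z l).left ⊆ Set.range (z j).left := by
    intro j l hjl
    obtain ⟨a, ha⟩ := Stat.exists_incl (hℓ j) (hℓ l) (pow_dvd_pow q hjl)
    obtain ⟨w, hw⟩ := ((hz j).2.2 _ (z l)).2 (fun X' x t => by
      have h1 := (cent_of_isCentralizerOf (hz l)) X' x (t ≫ a)
      rw [Category.assoc, hu j l a ha] at h1
      exact h1)
    have hw' : w.left ≫ (z j).left = (z l).left := congrArg CommaMorphism.left hw
    rintro _ ⟨y, rfl⟩
    exact ⟨w.left y, by rw [← Scheme.Hom.comp_apply, hw']⟩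
  have hir : ∀ j, i.left = (v j).left ≫ (z j).left := fun j => (congrArg CommaMorphism.left (hv j)).symm
  let D : ℕ → Set G.left := fun j => Set.range (z (N + j)).left \ Set.range i.left
  have hDz : ∀ j, D j = (z (N + j)).left '' (Set.range (v (N + j)).left)ᶜ := by
    intro j
    have := hzc (N + j)
    ext y
    constructor
    · rintro ⟨⟨y, rfl⟩, hy⟩
      refine ⟨y, ?_, rfl⟩
      rintro ⟨y', rfl⟩
      exact hy ⟨y', by rw [hir (N + j), Scheme.Hom.comp_apply]⟩
    · rintro ⟨y, hy, rfl⟩
      refine ⟨⟨y, rfl⟩, ?_⟩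
      rintro ⟨y', hy'⟩
      rw [hir (N + j), Scheme.Hom.comp_apply] at hy'
      exact hy ⟨y', (z (N + j)).left.isClosedEmbedding.injective hy'⟩
  by_contra hcon
  push Not at hcon
  have hne : ∀ j, (D j).Nonempty := by
    intro j
    by_contra hj
    rw [Set.not_nonempty_iff_eq_empty, hDz, Set.image_eq_empty, Set.compl_empty_iff] at hj
    have h1 := hvo (N + j) (Nat.le_add_right _ _)
    have h2 : Surjective (v (N + j)).left := ⟨Set.range_eq_univ.1 hj⟩
    have h3 : IsIso (v (N + j)).left := by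
      have : Epi (v (N + j)).left.base := by
        rw [TopCat.epi_iff_surjective]
        exact (v (N + j)).left.surjective
      exact IsOpenImmersion.isIso _
    have h4 : IsIso ((Over.forget (Spec (CommRingCat.of A))).map (v (N + j))) := h3
    exact hcon (N + j) (isIso_of_reflects_iso (v (N + j)) (Over.forget _))
  have hcl : ∀ j, IsClosed (D j) := by
    intro j
    have := hzc (N + j)
    have := hvo (N + j) (Nat.le_add_right _ _)
    rw [hDz]
    exact (z (N + j)).left.isClosedEmbedding.isClosedMap _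
      ((v (N + j)).left.isOpenEmbedding.isOpen_range.isClosed_compl)
  obtain ⟨x, hx⟩ := IsCompact.nonempty_iInter_of_sequence_nonempty_isCompact_isClosed D
    (fun j => Set.sdiff_subset_sdiff_left (hle _ _ (Nat.le_succ _))) hne (hcl 0).isCompact hcl
  rw [Set.mem_iInter] at hx
  refine (hx 0).2 (mem_range hT q hq hqA F hF ℓ hℓ u hum hu i hi Z z hz hzc v hv N (hvo N le_rfl) x fun j => ?_)
  exact hle j (N + j) (Nat.le_add_left _ _) (hx j).1

end

end K13.HC.Comp
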