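import Groth.Agent.SGA3x.K14.PowLift
import Groth.Agent.Sga3B.AdAff
import Groth.Agent.Books.AlgPts
import Groth.Agent.Sga3.H799.FibCrit
import Groth.Agent.SGA3x.K18.PbKit

/-!
# Homomorphisms of group schemes over a local base which are étale on the closed fibre

* `etale_of_near_unit`: over an algebraically closed field, a homomorphism étale near the unit point is étale;
* `isOpenImmersion`: over a local base, a monomorphic homomorphism which is étale on the closed fibre is an open
  immersion.
-/

set_option autoImplicit false
universe u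
open CategoryTheory MonoidalCategory CartesianMonoidalCategory MonObj GrpObj AlgebraicGeometry CategoryTheory.Limits
open K203.Loc Groth.Agent Groth.Agent.Sga3B Groth.Agent.Books.AlgPts K14.PowEtPt

namespace K13.HC.Open

section field

variable {K : Type u} [Field K] [IsAlgClosed K]

/-- A homomorphism which is étale near the unit point is étale. -/
theorem etale_of_near_unit {X Y : Over (Spec (CommRingCat.of K))} [GrpObj X] [GrpObj Y] [LocallyOfFiniteType X.hom]
    (f : X ⟶ Y) [IsMonHom f] (h : Near @Etale f.left (pt η[X])) : Etale f.left := by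
  refine property_of_forall fun z => ?_
  by_contra hz
  obtain ⟨x, hx⟩ := exists_pt_mem (X := X) (U := {y | Near @Etale f.left y}ᶜ) ⟨z, hz⟩
    (isOpen_setOf _).isClosed_compl.isLocallyClosed
  apply hx
  have h1 : (lt x).left ≫ f.left = f.left ≫ (lt (x ≫ f)).left := by
    rw [← Over.comp_left, ← Over.comp_left, comp_lt, lt, MonObj.mul_comp, Category.id_comp, Category.assoc]
  have h2 := (near_isoInv (P := @Etale) f.left f.left (lt x).left (lt (x ≫ f)).left h1 (pt η[X])).1 h
  rwa [← pt_comp, comp_lt, toUnit_unique (toUnit _) (𝟙 _), Category.id_comp, MonObj.one_eq_one, _root_.mul_one] at h2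

end field

section base

variable {S : Scheme.{u}} {X Y : Over S} [GrpObj X] [GrpObj Y]

omit [GrpObj Y] in
/-- The unit point of a base change. -/
lemma fst_pt {K : Type u} [Field K] (b : Spec (CommRingCat.of K) ⟶ S) :
    pullback.fst X.hom b (pt η[Red.bc b X]) = (η[X] : 𝟙_ (Over S) ⟶ X).left (b (IsLocalRing.closedPoint K)) := by
  have h := congr($(AdAff.unit_bc b X) (IsLocalRing.closedPoint K))
  rw [Scheme.Hom.comp_apply, Scheme.Hom.comp_apply] at h
  exact h

variable [Flat X.hom] [LocallyOfFinitePresentation X.hom] [LocallyOfFiniteType Y.hom]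

/-- A monomorphic homomorphism which is étale near the unit section is an open immersion. -/
theorem isOpenImmersion_of_unit (f : X ⟶ Y) [IsMonHom f] [Mono f]
    (h : ∀ s : S, Near @Etale f.left ((η[X] : 𝟙_ (Over S) ⟶ X).left s)) : IsOpenImmersion f.left := by
  refine Sga3.H799.FibCrit.isOpenImmersion_of_points f fun s => ?_
  refine ⟨AlgebraicClosure (S.residueField s), inferInstance, Red.geomPt s, K18.PbKit.geomPt_closedPoint s, ?_⟩
  have h1 : LocallyOfFiniteType (Red.bc (Red.geomPt s) X).hom := inferInstanceAs (LocallyOfFiniteType (pullback.snd _ _))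
  have h2 : Etale ((Over.pullback (Red.geomPt s)).map f).left := by
    refine etale_of_near_unit ((Over.pullback (Red.geomPt s)).map f) ?_
    refine near_of_isPullback (K14.EtFib.isPullback_map (Red.geomPt s) f) _ ?_
    have h3 := fst_pt (X := X) (Red.geomPt s)
    rw [h3]
    exact h _
  infer_instance

end base

/-- **Over a local base, a monomorphic homomorphism which is étale over a point above the closed point is an open
immersion.** -/
theorem isOpenImmersion {A : Type u} [CommRing A] [IsLocalRing A] {X Y : Over (Spec (CommRingCat.of A))} [GrpObj X]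
    [GrpObj Y] [Flat X.hom] [LocallyOfFinitePresentation X.hom] [LocallyOfFiniteType Y.hom] (f : X ⟶ Y) [IsMonHom f]
    [Mono f] {K : Type u} [Field K] (b : Spec (CommRingCat.of K) ⟶ Spec (CommRingCat.of A))
    (hb : b (IsLocalRing.closedPoint K) = IsLocalRing.closedPoint A)
    (h : Etale ((Over.pullback b).map f).left) : IsOpenImmersion f.left := by
  refine isOpenImmersion_of_unit f fun s => ?_
  have h1 : Near @Etale ((Over.pullback b).map f).left (pt η[Red.bc b X]) := Near.of_property h _
  have h2 := K14.EtFib.near_etale_of_field f b _ h1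
  rw [fst_pt, hb] at h2
  have h3 : IsOpen ((η[X] : 𝟙_ (Over (Spec (CommRingCat.of A))) ⟶ X).left ⁻¹' {y | Near @Etale f.left y}) :=
    (isOpen_setOf _).preimage (η[X] : 𝟙_ (Over (Spec (CommRingCat.of A))) ⟶ X).left.continuous
  exact (IsLocalRing.specializes_closedPoint s).mem_open h3 h2

end K13.HC.Open
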