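import Groth.Agent.SGA3x.K13.HC.Cf
import Groth.Agent.SGA3x.K13.HC.Comp
import Groth.Agent.SGA3x.K13.HC.Open
import Groth.Agent.SGA3x.K13.HC.Tors
import Groth.Agent.SGA3x.K5.MTTransp

/-!
# Fibrewise centralizers of tori over a henselian local base
-/

set_option autoImplicit false
universe u
open CategoryTheory MonoidalCategory CartesianMonoidalCategory MonObj GrpObj AlgebraicGeometry Limits

namespace K13.HC.Main

open Groth.Agent Groth.Agent.Sga3B Groth.Agent.Sga3B.RedIso Groth.Agent.Sga3B.BcPts K13.NTorsion K18.CentQuot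
  IsLocalRing Cf Un

lemma exists_prime (A : Type u) [CommRing A] [IsLocalRing A] : ∃ q : ℕ, q.Prime ∧ IsUnit (q : A) := by
  have h : IsUnit ((3 : A) + (-2)) := by
    have : (3 : A) + (-2) = 1 := by norm_num
    rw [this]
    exact isUnit_one
  rcases isUnit_or_isUnit_of_isUnit_add h with h | h
  · exact ⟨3, Nat.prime_three, by exact_mod_cast h⟩
  · refine ⟨2, Nat.prime_two, ?_⟩
    rw [IsUnit.neg_iff] at h
    exact_mod_cast h

variable {A : Type u} [CommRing A] [HenselianLocalRing A] {G H : Over (Spec (CommRingCat.of A))} [GrpObj G] [GrpObj H]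
  [Smooth G.hom] [QuasiCompact G.hom] [GeometricallyIrreducible G.hom] [IsSeparated G.hom]
  [Smooth H.hom] [QuasiCompact H.hom] [GeometricallyIrreducible H.hom] [IsSeparated H.hom]

theorem main (i : H ⟶ G) [IsMonHom i] [Mono i] (hH : FibCent i) :
    ∃ (M : Over (Spec (CommRingCat.of A))) (_ : GrpObj M) (j : M ⟶ G) (_ : IsMonHom j) (_ : Mono j),
      SGA3x.IsMultTypeFT M ∧ Etale M.hom ∧ Red.IsCentralizerOf j i := by
  obtain ⟨T₀, _, t₀, _, _, hT₀, hcen, hc₀⟩ := exists_closed_torus i hH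
  obtain ⟨T, _, hT, ⟨e⟩, htor⟩ := exists_torus_lift A T₀ hT₀
  obtain ⟨q, hq, hqA⟩ := exists_prime A
  have hn : ∀ (j : ℕ) (s : Spec (CommRingCat.of A)), ((q ^ j : ℕ) : (Spec (CommRingCat.of A)).residueField s) ≠ 0 := by
    intro j s
    have h1 : (q : (Spec (CommRingCat.of A)).residueField s) ≠ 0 :=
      Comp.natCast_ne_zero hqA ((Spec (CommRingCat.of A)).fromSpecResidueField s)
    rw [Nat.cast_pow]
    exact pow_ne_zero _ h1
  choose F gF ℓ hℓ hℓc hFfin hFet hFMT using fun j => Tors.exists_tors hT (q ^ j) (hn j) (pow_pos hq.pos j)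
  have hF1 : ∀ j, (𝟙 (F j) : F j ⟶ F j) ^ (q ^ j) = 1 := by
    intro j
    have := (hℓ j).mon
    have := (hℓ j).mono
    rw [← cancel_mono (ℓ j), K13.NTorsion.pow_comp, Category.id_comp, MonObj.one_comp]
    exact ((hℓ j).pts _ _).1 ⟨𝟙 _, Category.id_comp _⟩
  let u₀ : ∀ j, Red.bc (FinEt.ι A) (F j) ⟶ Red.bc (FinEt.ι A) H := fun j =>
    ((Over.pullback (FinEt.ι A)).map (ℓ j) ≫ (und e).hom) ≫ t₀
  have hu₀ : ∀ j, IsMonHom (u₀ j) := fun j => by
    have := (hℓ j).mon
    infer_instance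
  have hu₀m : ∀ j, Mono (u₀ j) := fun j => by
    have := (hℓ j).mono
    infer_instance
  have hu₀c : ∀ j, IsCen (u₀ j) := fun j => hcen.comp _
  choose u hum hub huc using fun j => exists_lift_hom (F := F j) (H := H) (q ^ j) (hn j) (hF1 j) (u₀ j) (hu₀c j)
  have humono : ∀ j, Mono (u j) := fun j => mono_of_closed (u j) (by rw [hub]; exact hu₀m j)
  have hun : ∀ j, u j ^ (q ^ j) = 1 := by
    intro j
    have := K13.NTorsion.pow_comp (𝟙 (F j)) (u j) (q ^ j)
    rw [hF1, MonObj.one_comp, Category.id_comp] at this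
    exact this.symm
  have hcompat : ∀ (j l : ℕ) (f : F j ⟶ F l), f ≫ ℓ l = ℓ j → f ≫ u l = u j := by
    intro j l f hf
    refine unique (q ^ j * q ^ l) (fun s => ?_) ?_ ?_ ((huc l).comp f) (huc j) ?_
    · rw [← pow_add]
      exact hn _ s
    · rw [mul_comm, pow_mul, ← MonObj.comp_pow, hun, MonObj.comp_one, one_pow]
    · rw [pow_mul, hun, one_pow]
    · rw [Functor.map_comp, hub, hub]
      simp only [u₀]
      rw [← Category.assoc, ← Category.assoc, ← Functor.map_comp, hf]
  choose Z gZ z hz hzc hzs hzf using fun j => SGA3x.K5.MTTransp.exists_centralizer (u₁ := u j ≫ i) (hFMT j)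
  have hcent : ∀ j, Cent (u j ≫ i) i := by
    intro j X' x t
    rw [← Category.assoc, ← MonObj.mul_comp, ← MonObj.mul_comp, huc j X' t x]
  have hv : ∀ j, ∃ v : H ⟶ Z j, v ≫ z j = i := fun j => ((hz j).2.2 _ i).2 (hcent j)
  choose v hv using hv
  -- stationarity over the closed point
  have hN : ∃ N, ∀ j, N ≤ j → ∃ w : Red.bc (FinEt.ι A) (Z j) ⟶ Red.bc (FinEt.ι A) H,
      w ≫ (Over.pullback (FinEt.ι A)).map i = (Over.pullback (FinEt.ι A)).map (z j) := by
    let := Ideal.Quotient.field (maximalIdeal A)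
    have i1 : LocallyOfFiniteType (Red.bc (FinEt.ι A) G).hom := inferInstanceAs (LocallyOfFiniteType (pullback.snd _ _))
    have i2 : QuasiCompact (Red.bc (FinEt.ι A) G).hom := inferInstanceAs (QuasiCompact (pullback.snd _ _))
    have i3 : IsSeparated (Red.bc (FinEt.ι A) G).hom := inferInstanceAs (IsSeparated (pullback.snd _ _))
    refine Stat.exists_index (t₀ ≫ (Over.pullback (FinEt.ι A)).map i) hT₀ ((Over.pullback (FinEt.ι A)).map i) hc₀ q
      hq.one_lt (Comp.natCast_ne_zero hqA (FinEt.ι A)) (fun j => Red.bc (FinEt.ι A) (F j))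
      (fun j => (Over.pullback (FinEt.ι A)).map (ℓ j) ≫ (und e).hom) (fun j => ((hℓ j).bc (FinEt.ι A)).comp_iso e)
      (fun j => Red.bc (FinEt.ι A) (Z j)) (fun j => (Over.pullback (FinEt.ι A)).map (z j)) (fun j => ?_)
      (fun j => SplitBc264.isClosedImmersion_bc (FinEt.ι A) _ (hzc j))
    have h1 := SplitBc264.isCentralizerOf_bc (FinEt.ι A) (hz j)
    rw [Functor.map_comp, hub] at h1
    simp only [u₀, Category.assoc] at h1 ⊢
    exact h1
  obtain ⟨N, hN⟩ := hN
  have hvo : ∀ j, N ≤ j → IsOpenImmersion (v j).left := by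
    intro j hj
    obtain ⟨w, hw⟩ := hN j hj
    have hzm := (hz j).2.1
    have hzmon := (hz j).1
    have hvm : Mono (v j) := by
      have : Mono (v j ≫ z j) := by rw [hv]; infer_instance
      exact mono_of_mono (v j) (z j)
    have hvmon : IsMonHom (v j) := by
      have : IsMonHom (v j ≫ z j) := by rw [hv]; infer_instance
      exact Sga3C.SubGrp.isMonHom_of_comp_mono (v j) (z j)
    have h1 : w ≫ (Over.pullback (FinEt.ι A)).map (v j) = 𝟙 _ := by
      rw [← cancel_mono ((Over.pullback (FinEt.ι A)).map (z j)), Category.assoc, ← Functor.map_comp, hv, hw,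
        Category.id_comp]
    have h2 : IsSplitEpi ((Over.pullback (FinEt.ι A)).map (v j)) := IsSplitEpi.mk' ⟨w, h1⟩
    have h3 : IsIso ((Over.pullback (FinEt.ι A)).map (v j)) := isIso_of_mono_of_isSplitEpi _
    have h4 : IsIso ((Over.pullback (FinEt.ι A)).map (v j)).left :=
      inferInstanceAs (IsIso ((Over.forget _).map ((Over.pullback (FinEt.ι A)).map (v j))))
    have h5 : LocallyOfFiniteType (Z j).hom := by
      have := hzs j
      infer_instance
    have h6 : Etale ((Over.pullback (FinEt.ι A)).map (v j)).left := inferInstance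
    let := Ideal.Quotient.field (maximalIdeal A)
    exact Open.isOpenImmersion (v j) (FinEt.ι A) (FinEt.exists_ι _) h6
  obtain ⟨j, hj⟩ := Comp.exists_iso htor q hq hqA F hFet ℓ hℓ (fun j => u j ≫ i) (fun j => inferInstance)
    (fun j l f hf => by rw [← Category.assoc, hcompat j l f hf]) i hcent Z z hz hzc v hv N hvo
  have := humono j
  refine ⟨F j, gF j, u j ≫ i, inferInstance, inferInstance, hFMT j, hFet j, inferInstance, inferInstance,
    fun X g => ?_⟩
  rw [← (hz j).2.2 X g]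
  constructor
  · rintro ⟨y, rfl⟩
    exact ⟨y ≫ v j, by rw [Category.assoc, hv]⟩
  · rintro ⟨y, rfl⟩
    exact ⟨y ≫ inv (v j), by rw [← hv j, Category.assoc, IsIso.inv_hom_id_assoc]⟩

end K13.HC.Main
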