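import Groth.Agent.SGA3x.K13.MTLift
import Groth.Agent.Sga3A.LiftHens
import Groth.Agent.S2974

/-!
# Lifting groups of multiplicative type over henselian local rings
-/

set_option autoImplicit false
universe u

open CategoryTheory MonoidalCategory CartesianMonoidalCategory MonObj GrpObj AlgebraicGeometry Limits
open scoped TensorProduct
open Groth.Agent Groth.Agent.Sga3B Groth.Agent.Books Groth.Agent.Books.AffBridge K10.MTLoc K13.MTLift
open IsLocalRing Groth.Agent.Sga3A.MTBasis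

namespace K13.HC.LiftMT

/-- **Existence of lifts** of groups of multiplicative type and of finite type over henselian local rings. -/
theorem exists_lift (A : Type u) [CommRing A] [HenselianLocalRing A]
    (H₀ : Over (Spec (CommRingCat.of (A ⧸ maximalIdeal A)))) [GrpObj H₀] (h : SGA3x.IsMultTypeFT H₀) :
    ∃ (H : Over (Spec (CommRingCat.of A))) (_ : GrpObj H), SGA3x.IsMultTypeFT H ∧
      Nonempty (Grp.mk (Red.bc (cl (maximalIdeal A)) H) ≅ Grp.mk H₀) := by
  classical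
  have haff : IsAffine H₀.left := by
    have := isAffineHom h
    exact isAffine_of_isAffineHom H₀.hom
  obtain ⟨B₀, _, _, e₀, he₀⟩ := exists_hopf (A ⧸ maximalIdeal A) H₀
  have h₀ : SGA3x.IsMultTypeFT (SpecOver (A ⧸ maximalIdeal A) B₀) := of_iso (Grp.mkIso' e₀) h
  have hfp := finitePresentation_of_isMultTypeFT h₀
  have hMT : SGA3b.IsMultType (A ⧸ maximalIdeal A) B₀ := by
    obtain ⟨s, hs, h⟩ := MTHopf.isQuasiIsotrivial_of_isMultTypeFT h₀
    refine ⟨s, hs, fun f hf => ?_⟩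
    obtain ⟨R', _, _, -, h2, h3⟩ := h f hf
    exact ⟨R', _, _, h2, h3⟩
  have hk : HenselianLocalRing (A ⧸ maximalIdeal A) := by
    let := Ideal.Quotient.field (maximalIdeal A)
    infer_instance
  obtain ⟨R', iR', iA', hE, hfin, hF, M, iM, ⟨e⟩⟩ := S2974.result (A ⧸ maximalIdeal A) B₀ inferInstance hMT
  have hnt : Nontrivial R' := by
    obtain ⟨p⟩ : Nonempty (PrimeSpectrum (A ⧸ maximalIdeal A)) := inferInstance
    obtain ⟨q, -⟩ := PrimeSpectrum.comap_surjective_of_faithfullyFlat (B := R') p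
    exact PrimeSpectrum.nonempty_iff_nontrivial.1 ⟨q⟩
  have hfg : Group.FG M := MTHopf.fg_of_finiteType e fun T _ _ => inferInstance
  obtain ⟨M₀, _, hM₀, ⟨ψ⟩⟩ := Groth.Agent.Sga3.H829.MultConv.exists_type_equiv M
  obtain ⟨B, iB, iAB, hBf, hBe, ⟨φ⟩⟩ := Groth.Agent.S0532.result A (maximalIdeal A) R'
  have hflat : Module.Flat A B := inferInstance
  have hff : Module.FaithfullyFlat A B := by
    refine Groth.Agent.Sga3A.LiftHens.faithfullyFlat_of_le_jacobson (maximalIdeal A) HenselianRing.jac B (R' := R')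
      (((φ : (A ⧸ maximalIdeal A) ⊗[A] B →ₐ[A ⧸ maximalIdeal A] R').toRingHom).comp
        (Algebra.TensorProduct.includeRight : B →ₐ[A] (A ⧸ maximalIdeal A) ⊗[A] B).toRingHom) (fun p => ?_)
    change φ ((1 : A ⧸ maximalIdeal A) ⊗ₜ[A] algebraMap A B p) = _
    rw [Algebra.algebraMap_eq_smul_one, ← TensorProduct.smul_tmul, ← Algebra.algebraMap_eq_smul_one]
    exact φ.commutes (Ideal.Quotient.mk (maximalIdeal A) p)
  have g1 : Groth.Agent.Sga3A.MTBasis.GBasis R' (R' ⊗[A ⧸ maximalIdeal A] B₀) M :=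
      (Groth.Agent.Sga3A.MTBasis.GBasis.ofBialgEquiv e)
  have hffpi : Module.FaithfullyFlat A (∀ _ : PUnit.{1}, B) :=
    Module.FaithfullyFlat.of_linearEquiv _ B (LinearEquiv.funUnique PUnit.{1} A B)
  obtain ⟨C, iC, iH, h1, ⟨ε⟩⟩ := Groth.Agent.Sga3A.LiftMain.exists_lift (R := A) (R₀ := A ⧸ maximalIdeal A) (A₀ := B₀)
    (S := fun _ : PUnit.{1} => B) (M := fun _ => M)
    (fun i => g1.bc (φ.symm : R' →ₐ[A ⧸ maximalIdeal A] (A ⧸ maximalIdeal A) ⊗[A] B))
    (fun i => Groth.Agent.Sga3A.LiftHens.idemLift_of_henselian A (maximalIdeal A) _)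
    (fun i j => Groth.Agent.Sga3A.LiftHens.idemLift_of_henselian A (maximalIdeal A) _)
    (fun i j k => Groth.Agent.Sga3A.LiftHens.idemLift_of_henselian A (maximalIdeal A) _)
  refine ⟨SpecOver A C, inferInstance, ?_, ?_⟩
  · refine MTHopf.of_finite_family (N := PUnit.{u + 1}) (fun _ => B) (fun _ => hflat) (fun p => ⟨⟨⟩, ?_⟩) (fun _ => ?_)
    · exact PrimeSpectrum.comap_surjective_of_faithfullyFlat p
    · obtain ⟨e'⟩ := h1 ⟨⟩
      refine of_split hM₀ ((isSplit_iff M₀).mpr ⟨?_⟩)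
      exact (GBasis.ofBialgEquiv e').reindex (ψ.trans MulEquiv.ulift.symm)
  · obtain ⟨e1⟩ := Hens.Dict.bc_specOver A C (A ⧸ maximalIdeal A)
    obtain ⟨e2⟩ := (Hens.Dict.nonempty_bialgEquiv (A ⧸ maximalIdeal A) ((A ⧸ maximalIdeal A) ⊗[A] C) B₀).mpr ⟨ε⟩
    exact ⟨e1 ≪≫ e2 ≪≫ (Grp.mkIso' e₀).symm⟩

end K13.HC.LiftMT
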