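import Groth.Agent.SGA3x.K13.HC.WCent
import Groth.Agent.Sga3B.IsoFam
import Groth.Agent.Sga3B.KerGrp

/-!
# Lifting central homomorphisms from finite étale groups over a henselian local base

`A` henselian local, `H` smooth separated with geometrically irreducible fibres, `F` a finite étale group killed by `n`
invertible in `A`: every central homomorphism `F ⟶ H` over the closed point lifts uniquely to a central homomorphism.
-/

set_option autoImplicit false
universe u
open CategoryTheory MonoidalCategory CartesianMonoidalCategory MonObj GrpObj AlgebraicGeometry CategoryTheory.Limits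
open K203.Loc K14.PowLift Groth.Agent.Sga3B Groth.Agent.Sga3B.BcPts IsLocalRing

namespace K13.HC.Un

/-- Central points. -/
def IsCen {S : Scheme.{u}} {H : Over S} [GrpObj H] {F : Over S} (v : F ⟶ H) : Prop :=
  ∀ (X : Over S) (x : X ⟶ F) (h : X ⟶ H), h * (x ≫ v) = (x ≫ v) * h

lemma IsCen.comp {S : Scheme.{u}} {H : Over S} [GrpObj H] {F F' : Over S} {v : F ⟶ H} (h : IsCen v) (f : F' ⟶ F) :
    IsCen (f ≫ v) := by
  intro X x g
  rw [← Category.assoc]
  exact h X (x ≫ f) g

lemma IsCen.mul {S : Scheme.{u}} {H : Over S} [GrpObj H] {F : Over S} {v w : F ⟶ H} (h : IsCen v) (h' : IsCen w) :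
    IsCen (v * w) := by
  intro X x g
  rw [MonObj.comp_mul, ← _root_.mul_assoc, h, _root_.mul_assoc, h', _root_.mul_assoc]

lemma isCen_one {S : Scheme.{u}} {H : Over S} [GrpObj H] {F : Over S} : IsCen (1 : F ⟶ H) := by
  intro X x g
  rw [MonObj.comp_one, _root_.one_mul, _root_.mul_one]

section near

variable {S : Scheme.{u}} {H : Over S} [GrpObj H] [Flat H.hom] [LocallyOfFinitePresentation H.hom]

/-- Central points lie in the étale locus of the power map. -/
theorem mem_E {F : Over S} (v : F ⟶ H) (hv : IsCen v) (n : ℕ) (hn : ∀ s : S, (n : S.residueField s) ≠ 0) (t : F.left) :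
    v.left t ∈ E H n := by
  let K := F.left.residueField t
  let r := F.left.fromSpecResidueField t
  let x : Over.mk (r ≫ F.hom) ⟶ F := Over.homMk r
  have hx : x.left (closedPoint K) = t := Scheme.fromSpecResidueField_apply _ _
  have hnK : (n : K) ≠ 0 := by
    intro h0
    apply hn (F.hom t)
    have h1 := map_natCast (F.hom.residueFieldMap t).hom n
    have h2 : (F.hom.residueFieldMap t).hom ((n : ℕ) : S.residueField (F.hom t)) = 0 := by
      rw [h1]
      exact h0
    exact (map_eq_zero _).1 h2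
  have h1 := near_of_central H n hnK (r ≫ F.hom) (x ≫ v) (fun X t g => by
    have := hv X (t ≫ x) g
    rw [Category.assoc] at this
    exact this.symm) (closedPoint K)
  rw [← hx]
  exact h1

end near

variable {A : Type u} [CommRing A]

section unique

variable [IsLocalRing A] {H : Over (Spec (CommRingCat.of A))} [GrpObj H] [Flat H.hom]
  [LocallyOfFinitePresentation H.hom]

/-- **Uniqueness of central lifts.** -/
theorem unique {F : Over (Spec (CommRingCat.of A))} [UniversallyClosed F.hom] (n : ℕ)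
    (hn : ∀ s : Spec (CommRingCat.of A), (n : (Spec (CommRingCat.of A)).residueField s) ≠ 0) {v v' : F ⟶ H}
    (hv : v ^ n = 1) (hv' : v' ^ n = 1) (hc : IsCen v) (hc' : IsCen v')
    (h : (Over.pullback (FinEt.ι A)).map v = (Over.pullback (FinEt.ι A)).map v') : v = v' := by
  obtain ⟨w, rfl⟩ := exists_fac n v hv (mem_E v hc n hn)
  obtain ⟨w', rfl⟩ := exists_fac n v' hv' (mem_E v' hc' n hn)
  congr 1
  apply FinEt.eq_of_map_eq
  have : Mono ((Over.pullback (FinEt.ι A)).map (j H n)) := inferInstance
  rw [Functor.map_comp, Functor.map_comp] at h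
  exact (cancel_mono _).1 h

end unique

section bc

variable {S S' : Scheme.{u}} (f : S' ⟶ S)

lemma isCen_bc {H : Over S} [GrpObj H] {F : Over S} {v : F ⟶ H} (hv : IsCen v) :
    IsCen ((Over.pullback f).map v) := by
  intro X x g
  apply (bcMulEquiv f X H).symm.injective
  rw [map_mul, map_mul]
  have e : (bcMulEquiv f X H).symm (x ≫ (Over.pullback f).map v) = (bcEquiv f X F).symm x ≫ v :=
    bcEquiv_symm_comp f x v
  rw [e]
  exact hv _ _ _

/-- A central point of the base change is central as a point of `H`. -/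
lemma isCentralPt_of_bc {H : Over S} [GrpObj H] {F : Over S'} {v : F ⟶ Red.bc f H} (hv : IsCen v) :
    IsCentralPt ((bcEquiv f F H).symm v) :=
  (isCentralPt_bc_iff f v).1 fun X t g => (hv X t g).symm

end bc

variable [HenselianLocalRing A] {H : Over (Spec (CommRingCat.of A))} [GrpObj H] [Flat H.hom]
  [LocallyOfFinitePresentation H.hom] [IsSeparated H.hom] [GeometricallyIrreducible H.hom]

/-- **Existence of central lifts.** -/
theorem exists_lift {F : Over (Spec (CommRingCat.of A))} [IsFinite F.hom] [Etale F.hom] (n : ℕ)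
    (hn : ∀ s : Spec (CommRingCat.of A), (n : (Spec (CommRingCat.of A)).residueField s) ≠ 0)
    (u₀ : Red.bc (FinEt.ι A) F ⟶ Red.bc (FinEt.ι A) H) (hu₀ : u₀ ^ n = 1) (hc : IsCen u₀) :
    ∃ u : F ⟶ H, (Over.pullback (FinEt.ι A)).map u = u₀ ∧ u ^ n = 1 ∧ IsCen u := by
  let z := (bcEquiv (FinEt.ι A) _ H).symm u₀
  have hz : z ^ n = 1 := by
    have := map_pow (bcMulEquiv (FinEt.ι A) (Red.bc (FinEt.ι A) F) H).symm u₀ n
    rw [hu₀, map_one] at this
    exact this.symm
  have hzc : IsCentralPt z := isCentralPt_of_bc _ hc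
  obtain ⟨w', hw'⟩ := exists_fac n z hz (fun t => by
    let F' := (Over.map (FinEt.ι A)).obj (Red.bc (FinEt.ι A) F)
    let K := F'.left.residueField t
    let r := F'.left.fromSpecResidueField t
    let x : Over.mk (r ≫ F'.hom) ⟶ F' := Over.homMk r
    have hx : x.left (closedPoint K) = t := Scheme.fromSpecResidueField_apply _ _
    have hnK : (n : K) ≠ 0 := by
      intro h0
      apply hn (F'.hom t)
      have h1 := map_natCast (F'.hom.residueFieldMap t).hom n
      have h2 : (F'.hom.residueFieldMap t).hom ((n : ℕ) : (Spec (CommRingCat.of A)).residueField (F'.hom t)) = 0 := by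
        rw [h1]
        exact h0
      exact (map_eq_zero _).1 h2
    have h1 := near_of_central H n hnK (r ≫ F'.hom) (x ≫ z) (hzc.comp x) (closedPoint K)
    rw [← hx]
    exact h1)
  have hs := WCent.isSeparated_W H n
  obtain ⟨w, hw⟩ := FinEt.exists_lift (F := F) (X := W H n) (bcEquiv (FinEt.ι A) _ (W H n) w')
  refine ⟨w ≫ j H n, ?_, comp_j_pow n w, fun X x h => ?_⟩
  · rw [Functor.map_comp, hw]
    have := bcEquiv_comp (FinEt.ι A) w' (j H n)
    rw [hw'] at this
    exact this.symm.trans (Equiv.apply_symm_apply _ _)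
  · have := WCent.central n (x ≫ w) h
    rwa [Category.assoc] at this

/-- **Central homomorphisms lift to central homomorphisms.** -/
theorem exists_lift_hom {F : Over (Spec (CommRingCat.of A))} [GrpObj F] [IsFinite F.hom] [Etale F.hom] (n : ℕ)
    (hn : ∀ s : Spec (CommRingCat.of A), (n : (Spec (CommRingCat.of A)).residueField s) ≠ 0)
    (hF : (𝟙 F : F ⟶ F) ^ n = 1)
    (u₀ : Red.bc (FinEt.ι A) F ⟶ Red.bc (FinEt.ι A) H) [IsMonHom u₀] (hc : IsCen u₀) :
    ∃ u : F ⟶ H, IsMonHom u ∧ (Over.pullback (FinEt.ι A)).map u = u₀ ∧ IsCen u := by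
  have hu₀ : u₀ ^ n = 1 := by
    have h1 : (𝟙 (Red.bc (FinEt.ι A) F) : Red.bc (FinEt.ι A) F ⟶ Red.bc (FinEt.ι A) F) ^ n = 1 := by
      have e1 := map_pow (Functor.homMonoidHom (Over.pullback (FinEt.ι A)) (X := F) (M := F)) (𝟙 F) n
      rw [hF, map_one] at e1
      have e2 : (Functor.homMonoidHom (Over.pullback (FinEt.ι A)) (X := F) (M := F)) (𝟙 F) =
        𝟙 (Red.bc (FinEt.ι A) F) := (Over.pullback (FinEt.ι A)).map_id F
      rw [e2] at e1
      exact e1.symm
    have h2 := K13.NTorsion.pow_comp (𝟙 (Red.bc (FinEt.ι A) F)) u₀ n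
    rw [h1, MonObj.one_comp, Category.id_comp] at h2
    exact h2.symm
  obtain ⟨u, hu, hun, huc⟩ := exists_lift n hn u₀ hu₀ hc
  have hfin : IsFinite (F ⊗ F).hom := by
    change IsFinite (pullback.fst F.hom F.hom ≫ F.hom)
    infer_instance
  refine ⟨u, ?_, hu, huc⟩
  have h1 : ((fst F F : F ⊗ F ⟶ F) * snd F F) ≫ u = (fst F F ≫ u) * (snd F F ≫ u) := by
    refine unique n hn ?_ ?_ (huc.comp _) ((huc.comp _).mul (huc.comp _)) ?_
    · rw [← MonObj.comp_pow, hun, MonObj.comp_one]
    · have hcomm : Commute (fst F F ≫ u) (snd F F ≫ u) := huc _ _ _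
      rw [hcomm.mul_pow, ← MonObj.comp_pow, ← MonObj.comp_pow, hun, MonObj.comp_one, MonObj.comp_one,
        _root_.one_mul]
    · rw [Functor.map_comp, hu, Functor.map_mul, Functor.map_mul, MonObj.mul_comp, Functor.map_comp, Functor.map_comp,
        hu]
  refine IsoFam.isMonHom_of_mul _ fun T x y => ?_
  have h2 := congrArg (lift x y ≫ ·) h1
  simp only [MonObj.comp_mul, lift_fst_assoc, lift_snd_assoc] at h2
  rw [← Category.assoc, MonObj.comp_mul, lift_fst, lift_snd] at h2
  exact h2

omit [HenselianLocalRing A] [Flat H.hom] [LocallyOfFinitePresentation H.hom] [GeometricallyIrreducible H.hom] in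
/-- A homomorphism from a finite étale group is a monomorphism as soon as it is so over the closed point. -/
theorem mono_of_closed [IsLocalRing A] {F : Over (Spec (CommRingCat.of A))} [GrpObj F] [IsFinite F.hom] [Etale F.hom]
    (u : F ⟶ H) [IsMonHom u] (h : Mono ((Over.pullback (FinEt.ι A)).map u)) : Mono u := by
  have hK : IsFinite (KerGrp.kerObj u).hom := by
    rw [← Over.w (KerGrp.kerι u)]
    infer_instance
  have h1 : KerGrp.kerι u = 1 := by
    apply FinEt.eq_of_map_eq
    rw [← cancel_mono ((Over.pullback (FinEt.ι A)).map u), ← Functor.map_comp, ← Functor.map_comp, KerGrp.kerι_comp,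
      MonObj.one_comp]
  refine ⟨fun {X} x y hxy => ?_⟩
  obtain ⟨z, hz⟩ := KerGrp.exists_lift u (x * y⁻¹) (by rw [MonObj.mul_comp, GrpObj.inv_comp, hxy, mul_inv_cancel])
  rw [h1, MonObj.comp_one] at hz
  exact (mul_inv_eq_one.1 hz.symm)

end K13.HC.Un
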