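import Groth.Agent.SGA3x.K16.CentTor
import Groth.Agent.SGA3x.K13.HC.Un
import Groth.Agent.SGA3x.K13.HC.LiftMT
import Groth.Agent.SGA3x.K21.MTType
import Groth.Agent.SGA3x.K21.MultLoc
import Groth.Agent.Sga3B.Parab.TorRank156

/-!
# The closed fibre

* `FibCent.bc`: the property "the geometric fibres of `H` are centralizers of subtori" is stable under base change;
* `exists_closed_torus`: over the residue field of a local ring, `H` is the centralizer of a central torus of `H`;
* `exists_torus_lift`: tori over the residue field of a henselian local ring lift to groups of multiplicative type with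
  torus geometric fibres.
-/

set_option autoImplicit false
universe u
open CategoryTheory MonoidalCategory CartesianMonoidalCategory MonObj GrpObj AlgebraicGeometry Limits

namespace K13.HC.Cf

open Groth.Agent Groth.Agent.Sga3B Groth.Agent.Sga3B.RedIso Groth.Agent.Sga3B.BcNat IsLocalRing
  Groth.Agent.Sga3.H799.Bc

section bc

variable {S S' : Scheme.{u}} {G H : Over S} [GrpObj G] [GrpObj H]

/-- The geometric fibres of `i` are centralizers of subtori. -/
def FibCent (i : H ⟶ G) : Prop :=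
  ∀ s : S, ∃ (T' : Over (Spec (CommRingCat.of (AlgebraicClosure (S.residueField s))))) (_ : GrpObj T')
    (j' : T' ⟶ Red.geomFibre s G) (_ : IsMonHom j') (_ : Mono j'), Red.IsTorus T' ∧
      Red.IsCentralizerOf j' ((Over.pullback (Red.geomPt s)).map i)

theorem FibCent.bc (f : S' ⟶ S) {i : H ⟶ G} (h : FibCent i) : FibCent ((Over.pullback f).map i) := by
  intro s'
  obtain ⟨θ, hθ⟩ := SplitBc264.exists_geomPt f s'
  obtain ⟨T', _, j', _, _, hT', hc⟩ := h (f s')
  refine ⟨Red.bc θ T', inferInstance, (Over.pullback θ).map j' ≫ (und (fibIso hθ G)).inv, inferInstance,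
    inferInstance, TorusBc.isTorus_bc θ hT', ?_⟩
  refine isCentralizerOf_of_arrow (Iso.refl (Grp.mk (Red.bc θ T'))) (fibIso hθ H).symm (fibIso hθ G).symm ?_ ?_
    (SplitBc264.isCentralizerOf_bc θ hc)
  · exact (Category.id_comp _).symm
  · rw [und_symm, und_symm]
    rw [Iso.eq_inv_comp, ← Category.assoc, ← fib_nat hθ i, Category.assoc, Iso.hom_inv_id, Category.comp_id]

end bc

section closed

variable {A : Type u} [CommRing A] [IsLocalRing A] {G H : Over (Spec (CommRingCat.of A))} [GrpObj G] [GrpObj H]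

/-- **The closed fibre of `H` is the centralizer of a central torus of `H`.** -/
theorem exists_closed_torus [Smooth G.hom] [QuasiCompact G.hom] [GeometricallyIrreducible G.hom] [Smooth H.hom]
    (i : H ⟶ G) [IsMonHom i] [Mono i] (h : FibCent i) :
    ∃ (T₀ : Over (Spec (CommRingCat.of (A ⧸ maximalIdeal A)))) (_ : GrpObj T₀) (t₀ : T₀ ⟶ Red.bc (FinEt.ι A) H)
      (_ : IsMonHom t₀) (_ : Mono t₀), Red.IsTorus T₀ ∧ Un.IsCen t₀ ∧
      Red.IsCentralizerOf (t₀ ≫ (Over.pullback (FinEt.ι A)).map i) ((Over.pullback (FinEt.ι A)).map i) := by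
  have hart : IsArtinianRing (A ⧸ maximalIdeal A) := by
    let := Ideal.Quotient.field (maximalIdeal A)
    exact inferInstance
  have h1 : Smooth (Red.bc (FinEt.ι A) G).hom := inferInstanceAs (Smooth (pullback.snd _ _))
  have h2 : QuasiCompact (Red.bc (FinEt.ι A) G).hom := inferInstanceAs (QuasiCompact (pullback.snd _ _))
  have h3 : GeometricallyIrreducible (Red.bc (FinEt.ι A) G).hom :=
    inferInstanceAs (GeometricallyIrreducible (pullback.snd _ _))
  have h4 : Smooth (Red.bc (FinEt.ι A) H).hom := inferInstanceAs (Smooth (pullback.snd _ _))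
  obtain ⟨⟨T₀, _, j₀, _, _, hT₀, hc⟩, -⟩ := K16.CentTor.main (G := Red.bc (FinEt.ι A) G) (H := Red.bc (FinEt.ι A) H)
    (fun s => ((Red.bc (FinEt.ι A) G).hom.isIrreducible_preimage (Red.bc (FinEt.ι A) G).hom.isOpenMap
      isIrreducible_singleton).isConnected)
    ((Over.pullback (FinEt.ι A)).map i) (h.bc (FinEt.ι A))
  obtain ⟨t₀, ht₀⟩ := (hc.2.2 _ j₀).2 (fun X' x y => by
    rw [← MonObj.mul_comp, ← MonObj.mul_comp, MaxTorNear900.mul_comm_of_isTorus hT₀])
  have h5 : IsMonHom (t₀ ≫ (Over.pullback (FinEt.ι A)).map i) := by rw [ht₀]; infer_instance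
  have h6 : IsMonHom t₀ := K16.NormMain.isMonHom_of_comp t₀ ((Over.pullback (FinEt.ι A)).map i)
  have h7 : Mono t₀ := by
    have : Mono (t₀ ≫ (Over.pullback (FinEt.ι A)).map i) := by rw [ht₀]; infer_instance
    exact mono_of_mono t₀ ((Over.pullback (FinEt.ι A)).map i)
  refine ⟨T₀, inferInstance, t₀, h6, h7, hT₀, fun X x g => ?_, by rw [ht₀]; exact hc⟩
  rw [← cancel_mono ((Over.pullback (FinEt.ι A)).map i), MonObj.mul_comp, MonObj.mul_comp]
  have h8 := (hc.2.2 X (g ≫ (Over.pullback (FinEt.ι A)).map i)).1 ⟨g, rfl⟩ X (𝟙 _) x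
  rw [Category.id_comp] at h8
  rw [Category.assoc, ht₀]
  exact h8

end closed

section lift

open K21.MTType

theorem ty_of_isTorus {k : Type u} [Field k] {T₀ : Over (Spec (CommRingCat.of k))} [GrpObj T₀] (h : Red.IsTorus T₀)
    (s : Spec (CommRingCat.of k)) : ∃ r : ℕ, Ty T₀ (Fin r → ℤ) s := by
  obtain ⟨N, _, hN, hty⟩ := exists_ty (K21.MultLoc.isMultTypeFT_of_isTorus h) s
  obtain ⟨e⟩ := hty.geom (Red.geomPt s) default (geomPt_apply s default)
  obtain ⟨r, ⟨ε⟩⟩ := Parab.TorRank156.finite_free (TorusBc.isTorus_bc (Red.geomPt s) h) (M := N) ⟨e⟩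
  exact ⟨r, hty.congr ε⟩

/-- **Lifting tori over henselian local rings.** -/
theorem exists_torus_lift (A : Type u) [CommRing A] [HenselianLocalRing A]
    (T₀ : Over (Spec (CommRingCat.of (A ⧸ maximalIdeal A)))) [GrpObj T₀] (hT₀ : Red.IsTorus T₀) :
    ∃ (T : Over (Spec (CommRingCat.of A))) (_ : GrpObj T), SGA3x.IsMultTypeFT T ∧
      Nonempty (Grp.mk (Red.bc (FinEt.ι A) T) ≅ Grp.mk T₀) ∧
      ∀ (K : Type u) [Field K] [IsAlgClosed K] (b : Spec (CommRingCat.of K) ⟶ Spec (CommRingCat.of A)),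
        Red.IsTorus (Red.bc b T) := by
  obtain ⟨T, _, hT, ⟨e⟩⟩ := LiftMT.exists_lift A T₀ (K21.MultLoc.isMultTypeFT_of_isTorus hT₀)
  refine ⟨T, inferInstance, hT, ⟨e⟩, ?_⟩
  have h1 : ∃ r : ℕ, Ty T₀ (Fin r → ℤ) (closedPoint (A ⧸ maximalIdeal A)) := by
    let := Ideal.Quotient.field (maximalIdeal A)
    exact ty_of_isTorus hT₀ _
  obtain ⟨r, hr⟩ := h1
  have h2 : Ty (Red.bc (FinEt.ι A) T) (Fin r → ℤ) (closedPoint (A ⧸ maximalIdeal A)) := hr.iso e.symm
  have h3 : Ty T (Fin r → ℤ) (closedPoint A) := by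
    have := (ty_bc_iff (FinEt.ι A) hT).1 h2
    rwa [FinEt.exists_ι] at this
  intro K _ _ b
  have h4 : Ty T (Fin r → ℤ) (b (closedPoint K)) :=
    (IsLocalRing.specializes_closedPoint _).mem_open (tyOpens T (Fin r → ℤ)).2 h3
  obtain ⟨e'⟩ := h4.geom b (closedPoint K) rfl
  exact TorusBc.isTorus_of_iso e'.symm (MaxTorusCrit.isTorus_DS _ r)

end lift

end K13.HC.Cf
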