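import Mathlib
import Groth.Agent.S16159

/-!
# The Zariski closure of a commutative group of torsion points of order invertible in the base field

`K` an algebraically closed field, `A` a commutative Hopf algebra of finite type over `K`, `θ : U ⟶ (A →ₐ[K] K)` a
homomorphism from a commutative group all of whose elements have finite order prime to the characteristic: the closure
of the image is diagonalizable.
-/

set_option autoImplicit false
universe u v w
open TensorProduct Coalgebra WithConv

namespace K13.HC.Clos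

section transl

variable {K : Type u} [Field K] {A : Type v} [CommRing A] [Bialgebra K A]

/-- Right translation by a linear form. -/
noncomputable def R (φ : A →ₗ[K] K) : A →ₗ[K] A :=
  (TensorProduct.rid K A).toLinearMap ∘ₗ LinearMap.lTensor A φ ∘ₗ comul

lemma R_apply (φ : A →ₗ[K] K) (f : A) : R φ f = TensorProduct.rid K A (LinearMap.lTensor A φ (comul f)) := rfl

lemma counit_R (φ : A →ₗ[K] K) (f : A) : counit (R := K) (R φ f) = φ f := by
  have h1 : (counit (R := K) (A := A)) ∘ₗ (TensorProduct.rid K A).toLinearMap ∘ₗ LinearMap.lTensor A φ =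
      φ ∘ₗ (TensorProduct.lid K A).toLinearMap ∘ₗ LinearMap.rTensor A (counit (R := K) (A := A)) := by
    ext a b
    simp [mul_comm]
  have h2 := congrArg (fun F => F (comul f)) h1
  simp only [LinearMap.comp_apply, Coalgebra.rTensor_counit_comul] at h2
  rw [R_apply]
  simpa using h2

lemma R_counit : R (counit (R := K) (A := A)) = LinearMap.id := by
  ext f
  rw [R_apply, Coalgebra.lTensor_counit_comul]
  simp

lemma R_mul (φ ψ : WithConv (A →ₗ[K] K)) : R (φ * ψ).ofConv = R φ.ofConv ∘ₗ R ψ.ofConv := by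
  let m : A ⊗[K] (A ⊗[K] A) →ₗ[K] A := (TensorProduct.rid K A).toLinearMap ∘ₗ
    LinearMap.lTensor A (LinearMap.mul' K K ∘ₗ TensorProduct.map φ.ofConv ψ.ofConv)
  have h1 : R (φ * ψ).ofConv = m ∘ₗ LinearMap.lTensor A comul ∘ₗ comul := by
    ext f
    simp only [R, m, LinearMap.convMul_def, LinearMap.comp_apply, LinearMap.lTensor_comp]
  have h2 : R φ.ofConv ∘ₗ R ψ.ofConv = m ∘ₗ (TensorProduct.assoc K A A A).toLinearMap ∘ₗ
      LinearMap.rTensor A comul ∘ₗ comul := by
    have h3 : R φ.ofConv ∘ₗ (TensorProduct.rid K A).toLinearMap ∘ₗ LinearMap.lTensor A ψ.ofConv =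
        m ∘ₗ (TensorProduct.assoc K A A A).toLinearMap ∘ₗ LinearMap.rTensor A comul := by
      ext a b
      simp only [TensorProduct.AlgebraTensorModule.curry_apply, TensorProduct.curry_apply, LinearMap.restrictScalars_self,
        LinearMap.comp_apply, LinearMap.lTensor_tmul, LinearEquiv.coe_coe, TensorProduct.rid_tmul, map_smul,
        LinearMap.rTensor_tmul, R]
      generalize (comul (R := K) a) = t
      induction t with
      | zero => simp
      | add x y hx hy => simp only [map_add, smul_add, hx, hy, TensorProduct.add_tmul]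
      | tmul x y =>
        simp only [LinearMap.lTensor_tmul, TensorProduct.rid_tmul, TensorProduct.assoc_tmul, m, LinearMap.comp_apply,
          LinearEquiv.coe_coe, TensorProduct.map_tmul, LinearMap.mul'_apply, mul_smul]
        rw [smul_comm]
    rw [show R ψ.ofConv = (TensorProduct.rid K A).toLinearMap ∘ₗ LinearMap.lTensor A ψ.ofConv ∘ₗ comul from rfl]
    rw [← LinearMap.comp_assoc, ← LinearMap.comp_assoc] at *
    simp only [LinearMap.comp_assoc] at *
    ext f
    exact congrArg (fun F => F (comul f)) h3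
  rw [h1, h2]
  ext f
  simp only [LinearMap.comp_apply, LinearEquiv.coe_coe, Coalgebra.coassoc_apply]

end transl

section decomp

variable {K : Type u} [Field K] {A : Type v} [CommRing A] [Bialgebra K A]

/-- Every element lies in a finite dimensional subspace stable under the right translations. -/
lemma exists_stable (v : A) : ∃ W : Submodule K A, v ∈ W ∧ W.FG ∧ ∀ (φ : A →ₗ[K] K), ∀ w ∈ W, R φ w ∈ W := by
  let F : (A →ₗ[K] K) →ₗ[K] A :=
    { toFun := fun φ => R φ v
      map_add' := fun φ ψ => by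
        rw [R_apply, R_apply, R_apply, LinearMap.lTensor_add, LinearMap.add_apply, map_add]
      map_smul' := fun c φ => by
        rw [R_apply, R_apply, LinearMap.lTensor_smul, LinearMap.smul_apply, map_smul, RingHom.id_apply] }
  refine ⟨LinearMap.range F, ⟨counit, by
    change R counit v = v
    rw [R_counit]; rfl⟩, ?_, ?_⟩
  · classical
    obtain ⟨s, hs⟩ := TensorProduct.exists_finset (comul (R := K) v)
    have h1 : LinearMap.range F ≤ Submodule.span K ((s.image Prod.fst : Finset A) : Set A) := by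
      rintro _ ⟨φ, rfl⟩
      change R φ v ∈ _
      rw [R_apply, hs, map_sum, map_sum]
      refine Submodule.sum_mem _ fun p hp => ?_
      rw [LinearMap.lTensor_tmul, TensorProduct.rid_tmul]
      exact Submodule.smul_mem _ _ (Submodule.subset_span (Finset.mem_coe.2 (Finset.mem_image_of_mem _ hp)))
    have h2 : (Submodule.span K ((s.image Prod.fst : Finset A) : Set A)).FG := ⟨_, rfl⟩
    exact Submodule.FG.of_le h2 h1
  · rintro φ _ ⟨ψ, rfl⟩
    refine ⟨(toConv φ * toConv ψ : WithConv (A →ₗ[K] K)).ofConv, ?_⟩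
    change R _ v = R φ (R ψ v)
    rw [R_mul]
    rfl

end decomp

/-- An endomorphism of finite order prime to the characteristic is diagonalizable. -/
lemma iSup_eigenspace_eq_top {K : Type u} [Field K] [IsAlgClosed K] {V : Type v} [AddCommGroup V] [Module K V]
    (g : Module.End K V) (n : ℕ) (hn : (n : K) ≠ 0) (hg : g ^ n = 1) : ⨆ μ : K, g.eigenspace μ = ⊤ := by
  classical
  have hn0 : 0 < n := Nat.pos_of_ne_zero (by rintro rfl; exact hn Nat.cast_zero)
  have : NeZero (n : K) := ⟨hn⟩
  obtain ⟨ζ, hζ⟩ := HasEnoughRootsOfUnity.exists_primitiveRoot K n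
  have key : ∀ s : Finset K, LinearMap.ker (Polynomial.aeval g (∏ μ ∈ s, (Polynomial.X - Polynomial.C μ))) ≤
      ⨆ μ : K, g.eigenspace μ := by
    intro s
    induction s using Finset.induction_on with
    | empty =>
      rw [Finset.prod_empty, map_one]
      intro x hx
      have hx' : x = 0 := hx
      rw [hx']; exact Submodule.zero_mem _
    | insert μ s hμ ih =>
      rw [Finset.prod_insert hμ]
      have hc : IsCoprime (Polynomial.X - Polynomial.C μ : Polynomial K) (∏ ν ∈ s, (Polynomial.X - Polynomial.C ν)) :=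
        IsCoprime.prod_right fun ν hν => Polynomial.isCoprime_X_sub_C_of_isUnit_sub
          (sub_ne_zero.2 fun h : μ = ν => hμ (h ▸ hν)).isUnit
      rw [← Polynomial.sup_ker_aeval_eq_ker_aeval_mul_of_coprime g hc]
      refine sup_le (le_trans ?_ (le_iSup _ μ)) ih
      intro x hx
      rw [Module.End.mem_eigenspace_iff]
      have hx' : (g - algebraMap K (Module.End K V) μ) x = 0 := by
        have h1 : Polynomial.aeval g (Polynomial.X - Polynomial.C μ) = g - algebraMap K (Module.End K V) μ := by simp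
        rw [← h1]; exact hx
      rw [LinearMap.sub_apply, sub_eq_zero] at hx'
      rw [hx']
      rfl
  rw [eq_top_iff]
  refine le_trans ?_ (key (Polynomial.nthRootsFinset n (1 : K)))
  rw [← Polynomial.X_pow_sub_one_eq_prod hn0 hζ]
  intro v _
  change Polynomial.aeval g (Polynomial.X ^ n - 1) v = 0
  simp [hg]

section ev

variable {K : Type u} [Field K] {A : Type v} [CommRing A] [HopfAlgebra K A] {U : Type w} [CommGroup U]
  (θ : U →* WithConv (A →ₐ[K] K))

/-- The operators of the points. -/
noncomputable def Rθ (a : U) : Module.End K A := R (θ a).ofConv.toLinearMap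

lemma Rθ_mul (a b : U) : Rθ θ (a * b) = Rθ θ a * Rθ θ b := by
  rw [Rθ, map_mul]
  exact (congrArg (fun F : WithConv (A →ₗ[K] K) => R F.ofConv) (AlgHom.toLinearMap_convMul (θ a) (θ b))).trans
    (R_mul _ _)

lemma Rθ_one : Rθ θ 1 = 1 := by
  rw [Rθ, map_one]
  exact R_counit

lemma Rθ_pow (a : U) (n : ℕ) : Rθ θ (a ^ n) = Rθ θ a ^ n := by
  induction n with
  | zero => rw [pow_zero, pow_zero, Rθ_one]
  | succ n ih => rw [pow_succ, pow_succ, Rθ_mul, ih]

/-- Evaluation of functions on the group of points. -/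
noncomputable def ev : A →ₐ[K] (U → K) := AlgHom.pi fun a => (θ a).ofConv

lemma ev_apply (f : A) (a : U) : ev θ f a = (θ a).ofConv f := rfl

lemma ev_counit (f : A) (a : U) : ev θ f a = counit (R := K) (Rθ θ a f) := by
  rw [Rθ, counit_R]
  rfl

/-- `A` is spanned by the common eigenvectors. -/
theorem iSup_eq_top [IsAlgClosed K] (hU : ∀ a : U, ∃ n : ℕ, (n : K) ≠ 0 ∧ a ^ n = 1) :
    ⨆ χ : U → K, ⨅ a, Module.End.eigenspace (Rθ θ a) (χ a) = ⊤ := by
  refine Groth.Agent.S16159.result K K A U (Rθ θ) (fun a b => ?_) (fun a => ?_) (fun v => ?_)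
  · change Rθ θ a * Rθ θ b = Rθ θ b * Rθ θ a
    rw [← Rθ_mul, ← Rθ_mul, mul_comm]
  · obtain ⟨n, hn, ha⟩ := hU a
    exact iSup_eigenspace_eq_top (Rθ θ a) n hn (by rw [← Rθ_pow, ha, Rθ_one])
  · obtain ⟨W, hv, hfg, hW⟩ := exists_stable (K := K) (A := A) v
    exact ⟨W, hv, hfg, fun a w hw => hW _ w hw⟩

/-- The characters of `U` which are restrictions of functions. -/
noncomputable def N : Subgroup (U →* Kˣ) where
  carrier := {χ | (fun a => ((χ a : Kˣ) : K)) ∈ (ev θ).range}
  mul_mem' := by
    intro χ χ' h h'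
    exact (ev θ).range.mul_mem h h'
  one_mem' := (ev θ).range.one_mem
  inv_mem' := by
    rintro χ ⟨f, hf⟩
    refine ⟨HopfAlgebra.antipode K f, ?_⟩
    funext a
    have h1 := congrFun hf a⁻¹
    simp only [AlgHom.toRingHom_eq_coe, RingHom.coe_coe] at h1 ⊢
    rw [ev_apply] at h1 ⊢
    rw [MonoidHom.inv_apply, ← map_inv, ← h1, map_inv]
    rfl

/-- common eigenvectors give characters -/
theorem ev_of_mem {χ : U → K} {v : A} (hv : v ∈ ⨅ a, Module.End.eigenspace (Rθ θ a) (χ a)) :
    ev θ v = counit (R := K) v • χ := by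
  funext a
  rw [ev_counit]
  have h1 := Module.End.mem_eigenspace_iff.1 ((Submodule.mem_iInf _).1 hv a)
  rw [h1, map_smul, Pi.smul_apply, smul_eq_mul, smul_eq_mul, mul_comm]

theorem exists_char {χ : U → K} {v : A} (hv : v ∈ ⨅ a, Module.End.eigenspace (Rθ θ a) (χ a)) (hv0 : v ≠ 0) :
    ∃ ψ : U →* Kˣ, ∀ a, ((ψ a : Kˣ) : K) = χ a := by
  have h1 : ∀ a, Rθ θ a v = χ a • v := fun a => Module.End.mem_eigenspace_iff.1 ((Submodule.mem_iInf _).1 hv a)
  have hone : χ 1 = 1 := by
    have := h1 1
    rw [Rθ_one] at this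
    have h2 : (1 : K) • v = χ 1 • v := by rw [one_smul]; exact this
    exact (smul_left_injective K hv0 h2).symm
  have hmul : ∀ a b, χ (a * b) = χ a * χ b := by
    intro a b
    have h2 : χ (a * b) • v = (χ a * χ b) • v := by
      rw [← h1, Rθ_mul, Module.End.mul_apply, h1 b, map_smul, h1 a, smul_smul, mul_comm]
    exact smul_left_injective K hv0 h2
  let ψ : U →* K := ⟨⟨χ, hone⟩, hmul⟩
  exact ⟨ψ.toHomUnits, fun a => rfl⟩

/-- the value of a function on points is a combination of characters -/
theorem ev_mem_span [IsAlgClosed K] (hU : ∀ a : U, ∃ n : ℕ, (n : K) ≠ 0 ∧ a ^ n = 1) (f : A) :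
    ev θ f ∈ Submodule.span K (Set.range fun χ : N θ => (fun a => ((χ.1 a : Kˣ) : K))) := by
  have hf : f ∈ ⨆ χ : U → K, ⨅ a, Module.End.eigenspace (Rθ θ a) (χ a) := by
    rw [iSup_eq_top θ hU]; trivial
  induction hf using Submodule.iSup_induction' with
  | mem χ v hv =>
    rw [ev_of_mem θ hv]
    by_cases h0 : counit (R := K) v = 0
    · rw [h0, zero_smul]; exact Submodule.zero_mem _
    · have hv0 : v ≠ 0 := by rintro rfl; exact h0 (map_zero _)
      obtain ⟨ψ, hψ⟩ := exists_char θ hv hv0
      have e : χ = fun a => ((ψ a : Kˣ) : K) := funext fun a => (hψ a).symm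
      have hmem : ψ ∈ N θ := by
        refine ⟨(counit (R := K) v)⁻¹ • v, ?_⟩
        simp only [AlgHom.toRingHom_eq_coe, RingHom.coe_coe]
        rw [map_smul, ev_of_mem θ hv, smul_smul, inv_mul_cancel₀ h0, one_smul, e]
      refine Submodule.smul_mem _ _ (Submodule.subset_span ⟨⟨ψ, hmem⟩, e.symm⟩)
  | zero => rw [map_zero]; exact Submodule.zero_mem _
  | add x y hx hy h1 h2 => rw [map_add]; exact Submodule.add_mem _ h1 h2

end ev

section chars

variable {K : Type u} [Field K] {U : Type w} [CommGroup U] {Γ : Type v} [CommGroup Γ] (c : Γ →* (U →* Kˣ))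

/-- Evaluation of elements of the group algebra of a group of characters. -/
noncomputable def Φ : MonoidAlgebra K Γ →ₐ[K] (U → K) :=
  AlgHom.pi fun a => MonoidAlgebra.lift K K Γ
    ⟨⟨fun m => ((c m a : Kˣ) : K), by rw [map_one]; rfl⟩, fun x y => by
      change ((c (x * y) a : Kˣ) : K) = _
      rw [map_mul]; rfl⟩

lemma Φ_single (m : Γ) (x : K) (a : U) : Φ c (MonoidAlgebra.single m x) a = x * ((c m a : Kˣ) : K) := by
  change MonoidAlgebra.lift K K Γ _ _ = _
  rw [MonoidAlgebra.lift_single]
  rfl

lemma linInd (hc : Function.Injective c) : LinearIndependent K (fun (m : Γ) (a : U) => ((c m a : Kˣ) : K)) := by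
  have h1 := linearIndependent_monoidHom U K
  exact h1.comp (fun m : Γ => (Units.coeHom K).comp (c m)) fun x y h => hc (MonoidHom.ext fun a => Units.ext (by
    exact DFunLike.congr_fun h a))

lemma Φ_eq (x : MonoidAlgebra K Γ) : Φ c x = Finsupp.linearCombination K (fun (m : Γ) (a : U) => ((c m a : Kˣ) : K))
    x.coeff := by
  induction x using MonoidAlgebra.induction_linear with
  | zero => simp
  | add f g hf hg => rw [map_add, hf, hg, MonoidAlgebra.coeff_add, map_add]
  | single m r =>
    funext a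
    rw [Φ_single]
    simp [Finsupp.linearCombination_single]

lemma Φ_injective (hc : Function.Injective c) : Function.Injective (Φ c) := by
  rw [injective_iff_map_eq_zero]
  intro x hx
  rw [Φ_eq] at hx
  have h1 := (linearIndependent_iff.1 (linInd c hc)) x.coeff hx
  exact MonoidAlgebra.ext (by rw [h1]; rfl)

/-- Evaluation on pairs. -/
noncomputable def L : MonoidAlgebra K Γ ⊗[K] MonoidAlgebra K Γ →ₐ[K] (U × U → K) :=
  AlgHom.pi fun p => Algebra.TensorProduct.lift ((Pi.evalAlgHom K (fun _ : U => K) p.1).comp (Φ c))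
    ((Pi.evalAlgHom K (fun _ : U => K) p.2).comp (Φ c)) (fun _ _ => Commute.all _ _)

lemma L_tmul (x y : MonoidAlgebra K Γ) (p : U × U) : L c (x ⊗ₜ y) p = Φ c x p.1 * Φ c y p.2 := by
  rw [L, AlgHom.pi_apply, Algebra.TensorProduct.lift_tmul]
  rfl

lemma L_injective (hc : Function.Injective c) : Function.Injective (L c) := by
  classical
  rw [injective_iff_map_eq_zero]
  intro x hx
  let b₀ : Module.Basis Γ K (MonoidAlgebra K Γ) := ⟨MonoidAlgebra.coeffLinearEquiv K⟩
  let b := b₀.tensorProduct b₀
  have hb : ∀ p : Γ × Γ, b p = MonoidAlgebra.single p.1 1 ⊗ₜ MonoidAlgebra.single p.2 1 := by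
    intro p
    rw [Module.Basis.tensorProduct_apply']
    rfl
  let c₂ : Γ × Γ →* (U × U →* Kˣ) :=
    { toFun := fun p => ⟨⟨fun a => c p.1 a.1 * c p.2 a.2, by simp⟩, fun x y => by
        simp only [Prod.fst_mul, Prod.snd_mul, map_mul]
        exact mul_mul_mul_comm _ _ _ _⟩
      map_one' := by ext; simp
      map_mul' := fun x y => by
        ext a
        simp only [Prod.fst_mul, Prod.snd_mul, map_mul, MonoidHom.coe_mk, OneHom.coe_mk, MonoidHom.mul_apply, Units.val_mul]
        ring }
  have hc₂ : Function.Injective c₂ := by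
    intro x y h
    have h1 : ∀ a b, c x.1 a * c x.2 b = c y.1 a * c y.2 b := fun a b => DFunLike.congr_fun h (a, b)
    refine Prod.ext (hc (MonoidHom.ext fun a => ?_)) (hc (MonoidHom.ext fun b => ?_))
    · have := h1 a 1
      rwa [map_one, map_one, mul_one, mul_one] at this
    · have := h1 1 b
      rwa [map_one, map_one, one_mul, one_mul] at this
  have h2 := linInd (K := K) c₂ hc₂
  have h3 : ∀ t, L c t = Finsupp.linearCombination K
      (fun (m : Γ × Γ) (a : U × U) => ((c₂ m a : Kˣ) : K)) (b.repr t) := by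
    intro t
    have h4 : (L c).toLinearMap = (Finsupp.linearCombination K
      (fun (m : Γ × Γ) (a : U × U) => ((c₂ m a : Kˣ) : K))) ∘ₗ b.repr.toLinearMap := by
      refine b.ext fun p => ?_
      rw [LinearMap.comp_apply, LinearEquiv.coe_coe, b.repr_self, Finsupp.linearCombination_single, one_smul, hb]
      funext a
      rw [AlgHom.toLinearMap_apply, L_tmul, Φ_single, Φ_single, one_mul, one_mul]
      rfl
    exact congrArg (fun F => F t) h4
  rw [h3] at hx
  have h5 := (linearIndependent_iff.1 h2) _ hx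
  exact (LinearEquiv.map_eq_zero_iff b.repr).1 h5

/-- the linear form attached to a point -/
lemma Φ_apply_eq (x : MonoidAlgebra K Γ) (a : U) (χ : Γ →* K) (h : ∀ m, χ m = ((c m a : Kˣ) : K)) :
    Φ c x a = MonoidAlgebra.lift K K Γ χ x := by
  induction x using MonoidAlgebra.induction_linear with
  | zero => simp
  | add f g hf hg => rw [map_add, map_add, Pi.add_apply, hf, hg]
  | single m r =>
    rw [Φ_single, MonoidAlgebra.lift_single, h]
    rfl

end chars

section main

variable {K : Type u} [Field K] [IsAlgClosed K] {A : Type v} [CommRing A] [HopfAlgebra K A] {U : Type w} [CommGroup U]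
  (θ : U →* WithConv (A →ₐ[K] K)) (hU : ∀ a : U, ∃ n : ℕ, (n : K) ≠ 0 ∧ a ^ n = 1)

include hU in
lemma ev_mem_range (f : A) : ev θ f ∈ (Φ (K := K) (N θ).subtype).range := by
  have h1 := ev_mem_span θ hU f
  have h2 : Submodule.span K (Set.range fun χ : N θ => (fun a => ((χ.1 a : Kˣ) : K))) ≤
      Subalgebra.toSubmodule (Φ (K := K) (N θ).subtype).range := by
    rw [Submodule.span_le]
    rintro _ ⟨χ, rfl⟩
    refine ⟨MonoidAlgebra.single χ 1, ?_⟩
    funext a
    simp only [AlgHom.toRingHom_eq_coe, RingHom.coe_coe]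
    rw [Φ_single, one_mul]
    rfl
  exact h2 h1

/-- Restriction of functions to the closure. -/
noncomputable def ψ₀ : A →ₐ[K] MonoidAlgebra K (N θ) :=
  ((AlgEquiv.ofInjective (Φ (K := K) (N θ).subtype) (Φ_injective _ (N θ).subtype_injective)).symm :
    _ →ₐ[K] _).comp ((ev θ).codRestrict _ (ev_mem_range θ hU))

lemma Φ_ψ₀ (f : A) : Φ (K := K) (N θ).subtype (ψ₀ θ hU f) = ev θ f := by
  have h1 := (AlgEquiv.ofInjective (Φ (K := K) (N θ).subtype)
    (Φ_injective _ (N θ).subtype_injective)).apply_symm_apply ((ev θ).codRestrict _ (ev_mem_range θ hU) f)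
  exact congrArg Subtype.val h1

omit [IsAlgClosed K] in
lemma counit_eq (x : MonoidAlgebra K (N θ)) : counit (R := K) x = Φ (K := K) (N θ).subtype x 1 := by
  induction x using MonoidAlgebra.induction_linear with
  | zero => simp
  | add f g hf hg => rw [map_add, map_add, Pi.add_apply, hf, hg]
  | single m r =>
    rw [Φ_single, map_one]
    simp

omit [IsAlgClosed K] in
lemma L_comul (x : MonoidAlgebra K (N θ)) (p : U × U) :
    L (K := K) (N θ).subtype (comul (R := K) x) p = Φ (K := K) (N θ).subtype x (p.1 * p.2) := by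
  induction x using MonoidAlgebra.induction_linear with
  | zero => simp
  | add f g hf hg => rw [map_add, map_add, map_add, Pi.add_apply, Pi.add_apply, hf, hg]
  | single m r =>
    rw [MonoidAlgebra.comul_single, CommSemiring.comul_apply, TensorProduct.map_tmul, L_tmul]
    change Φ (K := K) (N θ).subtype (MonoidAlgebra.single m 1) _ *
      Φ (K := K) (N θ).subtype (MonoidAlgebra.single m r) _ = _
    rw [Φ_single, Φ_single, Φ_single, map_mul, Units.val_mul]
    ring

lemma L_map (t : A ⊗[K] A) (p : U × U) :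
    L (K := K) (N θ).subtype (Algebra.TensorProduct.map (ψ₀ θ hU) (ψ₀ θ hU) t) p =
      LinearMap.mul' K K (TensorProduct.map (θ p.1).ofConv.toLinearMap (θ p.2).ofConv.toLinearMap t) := by
  induction t with
  | zero => simp
  | add x y hx hy => rw [map_add, map_add, map_add, map_add, Pi.add_apply, hx, hy]
  | tmul x y =>
    rw [Algebra.TensorProduct.map_tmul, L_tmul, Φ_ψ₀, Φ_ψ₀, TensorProduct.map_tmul, LinearMap.mul'_apply]
    rfl

/-- Restriction of functions to the closure, as a morphism of bialgebras. -/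
noncomputable def ψ₁ : A →ₐc[K] MonoidAlgebra K (N θ) :=
  BialgHom.ofAlgHom (ψ₀ θ hU) (by
    refine AlgHom.ext fun f => ?_
    change counit (R := K) (ψ₀ θ hU f) = counit f
    rw [counit_eq, Φ_ψ₀, ev_apply, map_one]
    rfl) (by
    refine AlgHom.ext fun f => ?_
    apply L_injective (K := K) (N θ).subtype (N θ).subtype_injective
    funext p
    change L _ (Algebra.TensorProduct.map (ψ₀ θ hU) (ψ₀ θ hU) (comul f)) p = L _ (comul (ψ₀ θ hU f)) p
    rw [L_comul, L_map, Φ_ψ₀, ev_apply, map_mul]
    rfl)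

lemma Φ_ψ₁ (f : A) : Φ (K := K) (N θ).subtype (ψ₁ θ hU f) = ev θ f := Φ_ψ₀ θ hU f

lemma ψ₁_surjective : Function.Surjective (ψ₁ θ hU) := by
  intro x
  induction x using MonoidAlgebra.induction_linear with
  | zero => exact ⟨0, map_zero _⟩
  | add f g hf hg =>
    obtain ⟨a, rfl⟩ := hf
    obtain ⟨b, rfl⟩ := hg
    exact ⟨a + b, map_add _ _ _⟩
  | single m r =>
    obtain ⟨f, hf⟩ := m.2
    refine ⟨r • f, ?_⟩
    apply Φ_injective (K := K) (N θ).subtype (N θ).subtype_injective
    rw [Φ_ψ₁, map_smul]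
    funext a
    rw [Φ_single, Pi.smul_apply, smul_eq_mul]
    exact congrArg (r * ·) (congrFun hf a)

include hU in
/-- **The closure of a divisible torsion group is a torus.** -/
theorem exists_torus [Algebra.FiniteType K A] (hdiv : ∀ (n : ℕ) (a : U), 0 < n → ∃ b, b ^ n = a) :
    ∃ (r : ℕ) (ψ : A →ₐc[K] MonoidAlgebra K (Multiplicative (Fin r → ℤ)))
      (c : Multiplicative (Fin r → ℤ) →* (U →* Kˣ)), Function.Surjective ψ ∧ Function.Injective c ∧
      ∀ (a : U) (f : A) (χ : Multiplicative (Fin r → ℤ) →* K), (∀ m, χ m = ((c m a : Kˣ) : K)) →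
        (θ a).ofConv f = MonoidAlgebra.lift K K _ χ (ψ f) := by
  have hfg : Group.FG (N θ) := by
    rw [Group.fg_iff_monoid_fg]
    have : Algebra.FiniteType K (MonoidAlgebra K (N θ)) :=
      Algebra.FiniteType.of_surjective (ψ₁ θ hU : A →ₐ[K] _) (ψ₁_surjective θ hU)
    exact MonoidAlgebra.fg_of_finiteType (R := K)
  have hfin : Module.Finite ℤ (Additive (N θ)) := by
    rw [Module.Finite.iff_addGroup_fg]
    exact inferInstance
  have htf : IsAddTorsionFree (Additive (N θ)) := by
    refine ⟨fun n hn x y hxy => ?_⟩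
    have h1 : ∀ z : N θ, z ^ n = 1 → z = 1 := by
      intro z hz
      refine Subtype.ext (MonoidHom.ext fun a => ?_)
      obtain ⟨b, rfl⟩ := hdiv n a (Nat.pos_of_ne_zero hn)
      rw [map_pow]
      exact DFunLike.congr_fun (congrArg Subtype.val hz) b
    have h2 : (Additive.toMul x : N θ) ^ n = (Additive.toMul y) ^ n := hxy
    have h3 : (Additive.toMul x : N θ) / Additive.toMul y = 1 := h1 _ (by rw [div_pow, h2, div_self'])
    have h4 : (Additive.toMul x : N θ) = Additive.toMul y := div_eq_one.1 h3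
    exact congrArg Additive.ofMul h4
  have hfree : Module.Free ℤ (Additive (N θ)) := inferInstance
  let b := Module.finBasis ℤ (Additive (N θ))
  let e : Additive (N θ) ≃+ (Fin (Module.finrank ℤ (Additive (N θ))) → ℤ) := b.equivFun.toAddEquiv
  let e' : N θ ≃* Multiplicative (Fin (Module.finrank ℤ (Additive (N θ))) → ℤ) :=
    AddEquiv.toMultiplicativeRight e
  refine ⟨_, (MonoidAlgebra.mapDomainBialgHom K e'.toMonoidHom).comp (ψ₁ θ hU),
    (N θ).subtype.comp e'.symm.toMonoidHom, ?_, ?_, ?_⟩
  · exact (MonoidAlgebra.domCongr K K e').surjective.comp (ψ₁_surjective θ hU)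
  · exact (N θ).subtype_injective.comp e'.symm.injective
  · intro a f χ hχ
    change ev θ f a = _
    rw [← Φ_ψ₁ θ hU]
    change _ = MonoidAlgebra.lift K K _ χ (MonoidAlgebra.mapDomainBialgHom K e'.toMonoidHom (ψ₁ θ hU f))
    generalize ψ₁ θ hU f = x
    induction x using MonoidAlgebra.induction_linear with
    | zero => simp
    | add f g hf hg => rw [map_add, map_add, map_add, Pi.add_apply, hf, hg]
    | single m r =>
      rw [Φ_single, MonoidAlgebra.mapDomainBialgHom_single, MonoidAlgebra.lift_single, hχ]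
      simp

end main

end K13.HC.Clos
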