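import Groth.Agent.Sga3B.RG.BrDiag
import Groth.Agent.SGA3x.K13.HC.Clos
import Groth.Agent.Sga3.H797.HomFin

/-!
# Density of a separating group of points in a diagonalizable group

`D = Spec K[M]`, `c : M → Hom(U, Kˣ)` injective, so that every `a ∈ U` gives a rational point of `D`: these points are
dense in `D`, universally.
-/

set_option autoImplicit false
universe u v

open CategoryTheory MonoidalCategory CartesianMonoidalCategory MonObj GrpObj AlgebraicGeometry
open Groth.Agent.Books.AffBridge Groth.Agent.Books.AffBridge2 Groth.Agent.Sga3B.RG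

namespace K13.HC.Dens

variable {K : Type u} [Field K] {M : Type} [CommGroup M] {U : Type v} [CommGroup U] (c : M →* (U →* Kˣ))

/-- The character values at `a`. -/
noncomputable def chi (a : U) : M →* K := (Units.coeHom K).comp ((MonoidHom.eval a).comp c)

lemma chi_apply (a : U) (m : M) : chi c a m = ((c m a : Kˣ) : K) := rfl

/-- The rational point attached to `a`. -/
noncomputable def evPt (a : U) : 𝟙_ (Over (Spec (CommRingCat.of K))) ⟶ SpecOver K (MonoidAlgebra K M) :=
  (unitIso K).hom ≫ specMap K (MonoidAlgebra.lift K K M (chi c a))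

section alg

variable (B : Type u) [CommRing B] [Algebra K B]

/-- Evaluation at `a`. -/
noncomputable def lam (a : U) : MonoidAlgebra B M →ₐ[K] B :=
  (MonoidAlgebra.lift B B M ((algebraMap K B : K →* B).comp (chi c a))).restrictScalars K

lemma lam_single (a : U) (m : M) (b : B) : lam c B a (MonoidAlgebra.single m b) = b * algebraMap K B (c m a : Kˣ) := by
  change MonoidAlgebra.lift B B M ((algebraMap K B : K →* B).comp (chi c a)) _ = _
  rw [MonoidAlgebra.lift_single]
  rfl

lemma dual_lam (ℓ : Module.Dual K B) (z : MonoidAlgebra B M) (a : U) :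
    Finsupp.linearCombination K (fun (m : M) (a : U) => ((c m a : Kˣ) : K))
      (z.coeff.mapRange ℓ (map_zero ℓ)) a = ℓ (lam c B a z) := by
  induction z using MonoidAlgebra.induction_linear with
  | zero => simp
  | add f g hf hg =>
    rw [map_add, map_add, ← hf, ← hg, MonoidAlgebra.coeff_add, Finsupp.mapRange_add (fun x y => map_add ℓ x y),
      map_add, Pi.add_apply]
  | single m b =>
    rw [lam_single, MonoidAlgebra.coeff_single, Finsupp.mapRange_single, Finsupp.linearCombination_single,
      Pi.smul_apply, smul_eq_mul, mul_comm b, ← Algebra.smul_def, map_smul, smul_eq_mul, mul_comm]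

lemma lam_injective (hc : Function.Injective c) {x y : MonoidAlgebra B M} (h : ∀ a, lam c B a x = lam c B a y) :
    x = y := by
  rw [← sub_eq_zero]
  have h0 : ∀ a, lam c B a (x - y) = 0 := fun a => by rw [map_sub, h, sub_self]
  generalize x - y = z at h0
  have h1 : ∀ (ℓ : Module.Dual K B), z.coeff.mapRange ℓ (map_zero ℓ) = 0 := by
    intro ℓ
    refine linearIndependent_iff.1 (Clos.linInd c hc) _ (funext fun a => ?_)
    rw [dual_lam, h0, map_zero, Pi.zero_apply]
  apply MonoidAlgebra.coeff_injective
  ext m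
  rw [MonoidAlgebra.coeff_zero, Finsupp.zero_apply, ← Module.forall_dual_apply_eq_zero_iff K]
  intro ℓ
  have h2 := DFunLike.congr_fun (h1 ℓ) m
  rwa [Finsupp.mapRange_apply] at h2

/-- The inclusion of the coefficients. -/
noncomputable def inc : B →ₐ[K] MonoidAlgebra B M := (Algebra.ofId B (MonoidAlgebra B M)).restrictScalars K

/-- The inclusion of the monoid algebra. -/
noncomputable def inj : MonoidAlgebra K M →ₐ[K] MonoidAlgebra B M :=
  MonoidAlgebra.lift K (MonoidAlgebra B M) M (MonoidAlgebra.of B M)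

lemma inj_single (m : M) (x : K) : inj B (MonoidAlgebra.single m x) = MonoidAlgebra.single m (algebraMap K B x) := by
  rw [inj, MonoidAlgebra.lift_single, MonoidAlgebra.of_apply, MonoidAlgebra.smul_single, Algebra.smul_def, _root_.mul_one]

lemma lam_inc (a : U) : (lam c B a).comp (inc B) = AlgHom.id K B := by
  ext b
  change lam c B a (algebraMap B (MonoidAlgebra B M) b) = b
  rw [MonoidAlgebra.coe_algebraMap]
  simp [lam_single]

lemma lam_inj (a : U) : (lam c B a).comp (inj B) = (Algebra.ofId K B).comp (MonoidAlgebra.lift K K M (chi c a)) := by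
  refine MonoidAlgebra.algHom_ext (fun m => ?_) (Subsingleton.elim _ _)
  rw [AlgHom.comp_apply, inj_single, lam_single, AlgHom.comp_apply, MonoidAlgebra.lift_single]
  simp [chi, Algebra.ofId_apply]

/-- The evaluation at a point of `D(B)`. -/
noncomputable def sig (τ : MonoidAlgebra K M →ₐ[K] B) : MonoidAlgebra B M →ₐ[K] B :=
  (MonoidAlgebra.lift B B M ((τ : MonoidAlgebra K M →* B).comp (MonoidAlgebra.of K M))).restrictScalars K

lemma sig_single (τ : MonoidAlgebra K M →ₐ[K] B) (m : M) (b : B) :
    sig B τ (MonoidAlgebra.single m b) = b * τ (MonoidAlgebra.single m 1) := by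
  change MonoidAlgebra.lift B B M ((τ : MonoidAlgebra K M →* B).comp (MonoidAlgebra.of K M)) _ = _
  rw [MonoidAlgebra.lift_single]
  rfl

lemma sig_inc (τ : MonoidAlgebra K M →ₐ[K] B) : (sig B τ).comp (inc B) = AlgHom.id K B := by
  ext b
  change sig B τ (algebraMap B (MonoidAlgebra B M) b) = b
  rw [MonoidAlgebra.coe_algebraMap]
  simp [sig_single, ← MonoidAlgebra.one_def]

lemma sig_inj (τ : MonoidAlgebra K M →ₐ[K] B) : (sig B τ).comp (inj B) = τ := by
  refine MonoidAlgebra.algHom_ext (fun m => ?_) (Subsingleton.elim _ _)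
  rw [AlgHom.comp_apply, inj_single, sig_single, map_one, _root_.one_mul]

end alg

section geom

variable (B : Type u) [CommRing B] [Algebra K B]

lemma toUnit_unitIso : toUnit (SpecOver K B) ≫ (unitIso K).hom = specMap K (Algebra.ofId K B) := by
  rw [← cancel_mono (unitIso K).inv, Category.assoc, Iso.hom_inv_id, Category.comp_id]
  exact toUnit_unique _ _

lemma lam_toUnit (a : U) : specMap K (lam c B a) ≫ specMap K (inj B) = toUnit _ ≫ evPt c a := by
  rw [evPt, ← Category.assoc, toUnit_unitIso, ← specMap_comp, ← specMap_comp, lam_inj]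

lemma hom_ext (hc : Function.Injective c) {Q : Over (Spec (CommRingCat.of K))} [IsSeparated Q.hom]
    {x y : SpecOver K (MonoidAlgebra B M) ⟶ Q} (h : ∀ a, specMap K (lam c B a) ≫ x = specMap K (lam c B a) ≫ y) :
    x = y := by
  obtain ⟨Z, z, hz, hZ, -⟩ := Groth.Agent.Sga3.H797.HomFin.exists_eq x y
  obtain ⟨I, e, he⟩ := (IsClosedImmersion.Spec_iff (R := CommRingCat.of (MonoidAlgebra B M)) (f := z.left)).1 hz
  have hI : I = ⊥ := by
    rw [eq_bot_iff]
    intro f hf
    refine lam_injective c B hc (y := 0) fun a => ?_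
    obtain ⟨t, ht⟩ := (hZ _ (specMap K (lam c B a))).2 (h a)
    have h1 : t.left ≫ z.left = (specMap K (lam c B a)).left := congrArg CommaMorphism.left ht
    rw [he] at h1
    have h2 : Spec.map (CommRingCat.ofHom (Ideal.Quotient.mk I) ≫ Spec.preimage (t.left ≫ e.hom)) =
        Spec.map (CommRingCat.ofHom (lam c B a).toRingHom) := by
      rw [Spec.map_comp, Spec.map_preimage, Category.assoc]
      exact h1
    have h3 := Spec.map_injective h2
    have h4 := congrArg (fun k => k.hom f) h3
    rw [map_zero]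
    refine h4.symm.trans ?_
    change (Spec.preimage (t.left ≫ e.hom)).hom (Ideal.Quotient.mk I f) = 0
    rw [Ideal.Quotient.eq_zero_iff_mem.2 hf, map_zero]
  subst hI
  have h1 : IsIso z.left := by
    rw [he]
    have : IsIso (Spec.map (CommRingCat.ofHom (Ideal.Quotient.mk (⊥ : Ideal (MonoidAlgebra B M))))) := by
      have h2 : IsIso (CommRingCat.ofHom (Ideal.Quotient.mk (⊥ : Ideal (MonoidAlgebra B M)))) :=
        (RingEquiv.quotientBot (MonoidAlgebra B M)).symm.toCommRingCatIso.isIso_hom
      infer_instance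
    exact IsIso.comp_isIso' inferInstance this
  have h2 : IsIso ((Over.forget _).map z) := h1
  have h2' : IsIso z := isIso_of_reflects_iso z (Over.forget _)
  have h3 := (hZ _ (𝟙 _)).1 ⟨inv z, IsIso.inv_hom_id z⟩
  simpa using h3

/-- The affine case. -/
theorem comm_aff (hc : Function.Injective c) {Q : Over (Spec (CommRingCat.of K))} [GrpObj Q] [IsSeparated Q.hom]
    (t' : SpecOver K (MonoidAlgebra K M) ⟶ Q) (g : SpecOver K B ⟶ Q)
    (hg : ∀ a, g * (toUnit _ ≫ evPt c a ≫ t') = (toUnit _ ≫ evPt c a ≫ t') * g)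
    (t : SpecOver K B ⟶ SpecOver K (MonoidAlgebra K M)) : g * (t ≫ t') = (t ≫ t') * g := by
  have h1 : (specMap K (inc B) ≫ g) * (specMap K (inj B) ≫ t') =
      (specMap K (inj (M := M) B) ≫ t') * (specMap K (inc B) ≫ g) := by
    refine hom_ext c B hc fun a => ?_
    rw [MonObj.comp_mul, MonObj.comp_mul, ← Category.assoc, ← Category.assoc, lam_toUnit, ← specMap_comp, lam_inc,
      specMap_id, Category.id_comp, Category.assoc]
    exact hg a
  have h2 := congrArg (specMap K (sig B (specPreimage K t)) ≫ ·) h1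
  simp only [MonObj.comp_mul] at h2
  rw [← Category.assoc, ← Category.assoc, ← specMap_comp, ← specMap_comp, sig_inj, sig_inc, specMap_id,
    Category.id_comp, specMap_specPreimage] at h2
  exact h2

/-- **Density**: a point commuting with the points `a ∈ U` commutes with the diagonalizable group. -/
theorem comm (hc : Function.Injective c) {Q : Over (Spec (CommRingCat.of K))} [GrpObj Q] [IsSeparated Q.hom]
    (t' : SpecOver K (MonoidAlgebra K M) ⟶ Q) {X : Over (Spec (CommRingCat.of K))} (g : X ⟶ Q)
    (hg : ∀ a, g * (toUnit _ ≫ evPt c a ≫ t') = (toUnit _ ≫ evPt c a ≫ t') * g)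
    (t : X ⟶ SpecOver K (MonoidAlgebra K M)) : g * (t ≫ t') = (t ≫ t') * g := by
  let 𝒰 := X.left.affineCover
  ext1
  refine 𝒰.hom_ext _ _ fun i => ?_
  let V : Over (Spec (CommRingCat.of K)) := Over.mk (𝒰.f i ≫ X.hom)
  let v : V ⟶ X := Over.homMk (𝒰.f i)
  have hV : IsAffine V.left := inferInstanceAs (IsAffine (𝒰.X i))
  obtain ⟨B, _, _, ⟨e⟩⟩ := BrDiag.exists_specOver V
  have h1 : v ≫ (g * (t ≫ t')) = v ≫ ((t ≫ t') * g) := by
    rw [← cancel_epi e.inv, ← Category.assoc, ← Category.assoc, MonObj.comp_mul, MonObj.comp_mul, ← Category.assoc _ t]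
    refine comm_aff c B hc t' _ (fun a => ?_) _
    have h2 := congrArg ((e.inv ≫ v) ≫ ·) (hg a)
    simp only [MonObj.comp_mul] at h2
    rw [← Category.assoc _ (toUnit X), comp_toUnit] at h2
    exact h2
  exact congrArg (fun z => z.left) h1

end geom

end K13.HC.Dens
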