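import Groth.Agent.Sga3.H784.MaxImg
import Groth.Agent.Sga3.H798.CentSep
import Groth.Agent.SGA3x.K18.CentQuot
import Groth.Agent.SGA3x.K18.PbKit
import Groth.Agent.SGA3x.K17.FlatHom
import Groth.Agent.SGA3x.K13.HC.Dens

/-!
# The centralizer of a commutative divisible group of torsion points of order prime to the characteristic

`K` algebraically closed, `G` a smooth connected algebraic group over `K`, `U` a divisible commutative group of rational
points of finite order invertible in `K`: the centralizer of `U` is the centralizer of a torus.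
-/

set_option autoImplicit false
universe u v

open CategoryTheory MonoidalCategory CartesianMonoidalCategory MonObj GrpObj AlgebraicGeometry Limits
open Groth.Agent.Books.AffBridge Groth.Agent.Books.AffBridge2

namespace K13.HC.Fib

open Groth.Agent Groth.Agent.Sga3B.RG Groth.Agent.Sga3B.RG.BrPts Groth.Agent.Sga3B.RG.BrTorus
open Groth.Agent.Sga3.H784.MaxImg Groth.Agent.Sga3.H784.Neutral Groth.Agent.Sga3.H784.LiftTorus
open Groth.Agent.Books.AlgPtsGrp Groth.Agent.Sga3.H784.Commute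

variable {K : Type u} [Field K] [IsAlgClosed K]

/-- **Lifting of tori along surjective homomorphisms.** -/
theorem exists_torus_above {G Q R : Over (Spec (CommRingCat.of K))} [GrpObj G] [GrpObj Q] [GrpObj R] [Smooth G.hom]
    [QuasiCompact G.hom] [LocallyOfFiniteType Q.hom] (q : G ⟶ Q) [IsMonHom q] [Surjective q.left]
    (hR : Red.IsTorus R) (t' : R ⟶ Q) [IsMonHom t'] [IsClosedImmersion t'.left] :
    ∃ (T : Over (Spec (CommRingCat.of K))) (_ : GrpObj T) (i : T ⟶ G) (p : T ⟶ R), IsMonHom i ∧ Mono i ∧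
      Red.IsTorus T ∧ IsMonHom p ∧ Surjective p.left ∧ Flat p.left ∧ p ≫ t' = i ≫ q := by
  have hRlft := lft_of_isTorus hR
  obtain ⟨D, _, d, v, hd, hdcl, hDred, hv, hvd, hpts⟩ := exists_preimage q t'
  have hdm : Mono d := mono_of_isClosedImmersion d
  have hDlft : LocallyOfFiniteType D.hom := by
    rw [← Over.w d]; infer_instance
  have hDqc : QuasiCompact D.hom := by
    rw [← Over.w d]; infer_instance
  have hvs : ∀ y : 𝟙_ (Over (Spec (CommRingCat.of K))) ⟶ R,
      ∃ x : 𝟙_ (Over (Spec (CommRingCat.of K))) ⟶ D, x ≫ v = y := by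
    intro y
    obtain ⟨x, hx⟩ := exists_lift_of_surjective q (y ≫ t')
    obtain ⟨z, -, hz⟩ := hpts x y hx
    exact ⟨z, hz⟩
  obtain ⟨U, _, u', hu', hucl, husm, huconn, huqc, hur⟩ := exists_neutral D
  have hum : Mono u' := mono_of_isClosedImmersion u'
  have hC : Sga3.H794.ChevKer.HasChev U := Sga3.H794.ChevClosed.exists_chevalley K U
  obtain ⟨T, _, s, hs, hsm, hT, hsurj⟩ := exists_torus_lift hC hR (u' ≫ v) (fun y =>
    exists_point_neutral u' hur hR v hvs y)
  have hTs := Sga3B.TorusAlgClosed.smooth_of_isTorus hT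
  have hRs := Sga3B.TorusAlgClosed.smooth_of_isTorus hR
  obtain ⟨m, e, he⟩ := isTorus_iff.1 hT
  have hTaff : IsAffine T.left := by
    have : IsIso e.hom.left := inferInstanceAs (IsIso ((Over.forget _).map e.hom))
    exact .of_isIso e.hom.left
  obtain ⟨m', e', he'⟩ := isTorus_iff.1 hR
  have hRaff : IsAffine R.left := by
    have : IsIso e'.hom.left := inferInstanceAs (IsIso ((Over.forget _).map e'.hom))
    exact .of_isIso e'.hom.left
  have hqc : QuasiCompact (s ≫ u' ≫ v).left := inferInstance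
  refine ⟨T, inferInstance, s ≫ u' ≫ d, s ≫ u' ≫ v, inferInstance, inferInstance, hT, inferInstance, hsurj,
    K17.FlatHom.flat_of_surjective T R _ hsurj, ?_⟩
  simp only [Category.assoc, hvd]

/-- Postcomposition with a homomorphism. -/
noncomputable def post {G Q : Over (Spec (CommRingCat.of K))} [GrpObj G] [GrpObj Q] (q : G ⟶ Q) [IsMonHom q]
    (X : Over (Spec (CommRingCat.of K))) : (X ⟶ G) →* (X ⟶ Q) where
  toFun := fun x => x ≫ q
  map_one' := MonObj.one_comp q
  map_mul' := fun x y => MonObj.mul_comp x y q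

/-- The torus of the affine quotient. -/
theorem exists_torus_quot {G : Over (Spec (CommRingCat.of K))} [GrpObj G] {A : Type u} [CommRing A] [HopfAlgebra K A]
    [Algebra.FiniteType K A] (q : G ⟶ SpecOver K A) [IsMonHom q]
    {U : Type v} [CommGroup U] (θ : U →* (𝟙_ (Over (Spec (CommRingCat.of K))) ⟶ G))
    (hU : ∀ a : U, ∃ n : ℕ, (n : K) ≠ 0 ∧ a ^ n = 1) (hdiv : ∀ (n : ℕ) (a : U), 0 < n → ∃ b, b ^ n = a) :
    ∃ (r : ℕ) (t' : SpecOver K (KZ K r) ⟶ SpecOver K A) (c : Multiplicative (Fin r → ℤ) →* (U →* Kˣ)),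
      IsMonHom t' ∧ IsClosedImmersion t'.left ∧ Function.Injective c ∧
      ∀ a : U, θ a ≫ q = Dens.evPt c a ≫ t' := by
  let θ' : U →* WithConv (A →ₐ[K] K) := ((ptEquiv K A).symm : _ →* Pt K A).comp ((post q _).comp θ)
  obtain ⟨r, ψ, c, hψ, hc, hval⟩ := Clos.exists_torus θ' hU hdiv
  refine ⟨r, specMap K (ψ : A →ₐ[K] KZ K r), c, isMonHom_specMap K ψ, (isClosedImmersion_specMap_iff K _).2 hψ, hc,
    fun a => ?_⟩
  have h1 : (θ' a).ofConv = (MonoidAlgebra.lift K K _ (Dens.chi c a)).comp (ψ : A →ₐ[K] KZ K r) :=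
    AlgHom.ext fun f => hval a f (Dens.chi c a) fun m => rfl
  have h2 : θ a ≫ q = ptEquiv K A (θ' a) := ((ptEquiv K A).apply_symm_apply _).symm
  rw [h2, ptEquiv_apply, h1, specMap_comp, Dens.evPt, Category.assoc]

/-- A point centralizing the torus above centralizes the points. -/
theorem comm_of_cent {G Q T R : Over (Spec (CommRingCat.of K))} [GrpObj G] [GrpObj Q] [LocallyOfFiniteType T.hom]
    [LocallyOfFiniteType R.hom]
    (q : G ⟶ Q) [IsMonHom q]
    (hker : ∀ (X : Over (Spec (CommRingCat.of K))) (z g : X ⟶ G), z ≫ q = 1 → z * g = g * z)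
    (i : T ⟶ G) (p : T ⟶ R) [Surjective p.left] (t' : R ⟶ Q) (hpt : p ≫ t' = i ≫ q)
    (x : 𝟙_ (Over (Spec (CommRingCat.of K))) ⟶ G) (y : 𝟙_ (Over (Spec (CommRingCat.of K))) ⟶ R)
    (hxy : x ≫ q = y ≫ t') {X : Over (Spec (CommRingCat.of K))} (g : X ⟶ G) (hg : K18.CentQuot.Cent i g) :
    g * (toUnit X ≫ x) = (toUnit X ≫ x) * g := by
  obtain ⟨τ, hτ⟩ := exists_lift_of_surjective p y
  have h1 : (τ ≫ i) ≫ q = x ≫ q := by
    rw [Category.assoc, ← hpt, ← Category.assoc, hτ, hxy]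
  have h2 : ((τ ≫ i)⁻¹ * x) ≫ q = 1 := by
    rw [MonObj.mul_comp, GrpObj.inv_comp, h1, inv_mul_cancel]
  have h3 : x = (τ ≫ i) * ((τ ≫ i)⁻¹ * x) := by rw [mul_inv_cancel_left]
  generalize (τ ≫ i)⁻¹ * x = z at h2 h3
  have h4 : (toUnit X ≫ z) * g = g * (toUnit X ≫ z) :=
    hker X (toUnit X ≫ z) g (by rw [Category.assoc, h2, MonObj.comp_one])
  have h5 : g * (toUnit X ≫ τ ≫ i) = (toUnit X ≫ τ ≫ i) * g := by
    have := hg X (𝟙 X) (toUnit X ≫ τ)
    rwa [Category.id_comp, Category.assoc] at this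
  rw [h3, MonObj.comp_mul, ← _root_.mul_assoc, h5, _root_.mul_assoc, ← h4, _root_.mul_assoc]

/-- A point centralizing the points centralizes the torus above. -/
theorem cent_of_comm {G Q T R : Over (Spec (CommRingCat.of K))} [GrpObj G] [GrpObj Q] [GrpObj T] [GrpObj R]
    [IsSeparated G.hom] [LocallyOfFiniteType G.hom] [QuasiCompact G.hom] [IsSeparated Q.hom]
    (q : G ⟶ Q) [IsMonHom q]
    (hker : ∀ (X : Over (Spec (CommRingCat.of K))) (z g : X ⟶ G), z ≫ q = 1 → z * g = g * z)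
    (hR : Red.IsTorus R) (i : T ⟶ G) [IsMonHom i] (hT : Red.IsTorus T) (p : T ⟶ R) [Surjective p.left] [Flat p.left]
    (t' : R ⟶ Q) [IsMonHom t'] (hpt : p ≫ t' = i ≫ q)
    {X : Over (Spec (CommRingCat.of K))} (g : X ⟶ G) (hg : K18.CentQuot.Cent t' (g ≫ q)) :
    K18.CentQuot.Cent i g := by
  have hRs := Sga3B.TorusAlgClosed.smooth_of_isTorus hR
  have hRi := Sga3B.TorusIrr.geometricallyIrreducible_of_isTorus hR
  obtain ⟨C', _, c', hcl', hcent', -⟩ := Sga3.H798.CentSep.exists_centralizer (G := Q) t'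
  have hcc : Red.IsCentralizerOf t' c' := hcent'
  have hm' := hcc.1
  have hmm' := hcc.2.1
  have sq : IsPullback (pullback.fst q c') (pullback.snd q c') q c' := IsPullback.of_hasPullback q c'
  obtain ⟨_, hh, hw⟩ := K18.PbKit.exists_grpObj_pullback q c' sq
  have key := K18.CentQuot.isCentralizerOf q hker i hT t' p hpt c' hcc (pullback.fst q c') (pullback.snd q c') sq
  obtain ⟨y, hy⟩ := (hcc.2.2 X (g ≫ q)).2 hg
  exact (key.2.2 X g).1 ⟨sq.lift g y hy.symm, sq.lift_fst _ _ _⟩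

/-- Density. -/
theorem cent_quot {G Q : Over (Spec (CommRingCat.of K))} [GrpObj G] [GrpObj Q] [IsSeparated Q.hom]
    (q : G ⟶ Q) [IsMonHom q] {U : Type v} [CommGroup U] (θ : U →* (𝟙_ (Over (Spec (CommRingCat.of K))) ⟶ G))
    {r : ℕ} (t' : SpecOver K (KZ K r) ⟶ Q) (c : Multiplicative (Fin r → ℤ) →* (U →* Kˣ)) (hc : Function.Injective c)
    (hθ : ∀ a : U, θ a ≫ q = Dens.evPt c a ≫ t') {X : Over (Spec (CommRingCat.of K))} (g : X ⟶ G)
    (hg : ∀ a : U, g * (toUnit X ≫ θ a) = (toUnit X ≫ θ a) * g) : K18.CentQuot.Cent t' (g ≫ q) := by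
  intro X' x t
  refine Dens.comm c hc t' (x ≫ g ≫ q) (fun a => ?_) t
  have h2 := congrArg (fun k => x ≫ k ≫ q) (hg a)
  simp only [MonObj.mul_comp, MonObj.comp_mul, Category.assoc] at h2
  rw [hθ, ← Category.assoc x (toUnit X), comp_toUnit] at h2
  exact h2

/-- **The centralizer of a divisible commutative group of torsion points is the centralizer of a torus.** -/
theorem main {G : Over (Spec (CommRingCat.of K))} [GrpObj G] [Smooth G.hom] [QuasiCompact G.hom]
    [ConnectedSpace G.left] {U : Type v} [CommGroup U] (θ : U →* (𝟙_ (Over (Spec (CommRingCat.of K))) ⟶ G))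
    (hU : ∀ a : U, ∃ n : ℕ, (n : K) ≠ 0 ∧ a ^ n = 1) (hdiv : ∀ (n : ℕ) (a : U), 0 < n → ∃ b, b ^ n = a) :
    ∃ (T : Over (Spec (CommRingCat.of K))) (_ : GrpObj T) (i : T ⟶ G), IsMonHom i ∧ Mono i ∧ Red.IsTorus T ∧
      ∀ (X : Over (Spec (CommRingCat.of K))) (g : X ⟶ G),
        K18.CentQuot.Cent i g ↔ ∀ a : U, g * (toUnit X ≫ θ a) = (toUnit X ≫ θ a) * g := by
  have hGsep : IsSeparated G.hom := Groth.Agent.Localalg.GrpSchComp2.isSeparated_hom G
  obtain ⟨A, _, _, q, hft, hq, hqs, hqf, hker⟩ := Sga3.H784.Conj.exists_quot G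
  have hAlft : LocallyOfFiniteType (SpecOver K A).hom := lft_specOver A
  have hAsep : IsSeparated (SpecOver K A).hom := inferInstance
  obtain ⟨r, t', c, ht'm, ht'c, hc, hθ⟩ := exists_torus_quot q θ hU hdiv
  have hR : Red.IsTorus (SpecOver K (KZ K r)) := isTorus_KZ r
  obtain ⟨T, _, i, p, hi, him, hT, hp, hps, hpf, hpt⟩ := exists_torus_above q hR t'
  have hTl := lft_of_isTorus hT
  have hRl := lft_of_isTorus hR
  refine ⟨T, inferInstance, i, hi, him, hT, fun X g => ⟨fun hg a => ?_, fun hg => ?_⟩⟩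
  · exact comm_of_cent q hker i p t' hpt (θ a) (Dens.evPt c a) (hθ a) g hg
  · exact cent_of_comm q hker hR i hT p t' hpt g (cent_quot q θ t' c hc hθ g hg)

end K13.HC.Fib
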