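import Groth.Agent.SGA3x.K13.HC.Stat
import Groth.Agent.Sga3.H831.CartFacts

/-!
# Points commuting with the torsion of `q`-power order, over an algebraically closed field
-/

set_option autoImplicit false
universe u v

namespace K13.HC.FibMain

section alg

open TorsDens

theorem qtorsG_div {G : Type v} [CommGroup G] {q : ℕ} (hq : q.Prime)
    (hdiv : ∀ (n : ℕ) (a : G), 0 < n → ∃ b, b ^ n = a) (n : ℕ) (a : qtorsG q G) (hn : 0 < n) :
    ∃ b : qtorsG q G, b ^ n = a := by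
  obtain ⟨a, j, hj⟩ := a
  obtain ⟨e, m, hm, rfl⟩ := Nat.exists_eq_pow_mul_and_not_dvd hn.ne' q hq.ne_one
  have hcop : m.Coprime (orderOf a) := by
    refine Nat.Coprime.coprime_dvd_right (orderOf_dvd_of_pow_eq_one hj) ?_
    exact Nat.Coprime.pow_right _ ((Nat.Prime.coprime_iff_not_dvd hq).2 hm).symm
  obtain ⟨m', hm'⟩ := exists_pow_eq_self_of_coprime hcop
  obtain ⟨z, hz⟩ := hdiv (q ^ e) (a ^ m') (pow_pos hq.pos e)
  refine ⟨⟨z, e + j, ?_⟩, Subtype.ext ?_⟩
  · rw [pow_add, pow_mul, hz, ← pow_mul, mul_comm, pow_mul, hj, one_pow]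
  · change z ^ (q ^ e * m) = a
    rw [pow_mul, hz, ← pow_mul, mul_comm, pow_mul, hm']

end alg

end K13.HC.FibMain

open CategoryTheory MonoidalCategory CartesianMonoidalCategory MonObj GrpObj AlgebraicGeometry Limits

namespace K13.HC.FibMain

open Groth.Agent Groth.Agent.Sga3B Groth.Agent.Sga3B.BcPts K13.NTorsion K18.CentQuot TorsDens
open Groth.Agent.Books.AlgPts Groth.Agent.Books.AlgPtsSmooth Groth.Agent.Sga3B.RG.BrPts

section theta

variable {S : Scheme.{u}} {T G : Over S} [GrpObj T] [GrpObj G]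

/-- The commutative group of sections of a commutative group scheme. -/
noncomputable abbrev cgT (hc : ∀ x y : 𝟙_ (Over S) ⟶ T, x * y = y * x) : CommGroup (𝟙_ (Over S) ⟶ T) where
  mul_comm := hc

/-- The homomorphism on sections of `q`-power order given by compatible homomorphisms on the torsion subgroups. -/
theorem exists_theta (hc : ∀ x y : 𝟙_ (Over S) ⟶ T, x * y = y * x) (q : ℕ)
    (F : ℕ → Over S) [∀ j, GrpObj (F j)] (ℓ : ∀ j, F j ⟶ T) (hℓ : ∀ j, IsTors (q ^ j) (ℓ j))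
    (u : ∀ j, F j ⟶ G) (hum : ∀ j, IsMonHom (u j)) (hu : ∀ (j l : ℕ) (f : F j ⟶ F l), f ≫ ℓ l = ℓ j → f ≫ u l = u j) :
    let _ := cgT hc
    ∃ θ : qtorsG q (𝟙_ (Over S) ⟶ T) →* (𝟙_ (Over S) ⟶ G),
      ∀ (a : qtorsG q (𝟙_ (Over S) ⟶ T)) (j : ℕ) (y : 𝟙_ (Over S) ⟶ F j), y ≫ ℓ j = a.1 → θ a = y ≫ u j := by
  intro _
  have hex : ∀ a : qtorsG q (𝟙_ (Over S) ⟶ T), ∃ (j : ℕ) (y : 𝟙_ (Over S) ⟶ F j), y ≫ ℓ j = a.1 := by
    rintro ⟨a, j, hj⟩
    exact ⟨j, ((hℓ j).pts _ a).2 hj⟩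
  have huniq : ∀ (j l : ℕ) (y : 𝟙_ (Over S) ⟶ F j) (y' : 𝟙_ (Over S) ⟶ F l), y ≫ ℓ j = y' ≫ ℓ l →
      y ≫ u j = y' ≫ u l := by
    intro j l y y' h
    obtain ⟨f, hf⟩ := Stat.exists_incl (hℓ j) (hℓ (j + l)) (pow_dvd_pow q (Nat.le_add_right j l))
    obtain ⟨f', hf'⟩ := Stat.exists_incl (hℓ l) (hℓ (j + l)) (pow_dvd_pow q (Nat.le_add_left l j))
    have := (hℓ (j + l)).mono
    have h1 : y ≫ f = y' ≫ f' := by
      rw [← cancel_mono (ℓ (j + l)), Category.assoc, Category.assoc, hf, hf', h]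
    rw [← hu j (j + l) f hf, ← hu l (j + l) f' hf', ← Category.assoc, h1, Category.assoc]
  choose J y hy using hex
  have key : ∀ (a : qtorsG q (𝟙_ (Over S) ⟶ T)) (j : ℕ) (z : 𝟙_ (Over S) ⟶ F j), z ≫ ℓ j = a.1 →
      y a ≫ u (J a) = z ≫ u j := fun a j z hz => huniq _ _ _ _ ((hy a).trans hz.symm)
  refine ⟨{ toFun := fun a => y a ≫ u (J a), map_one' := ?_, map_mul' := fun a b => ?_ }, key⟩
  · have := hum 0
    have := (hℓ 0).mon
    rw [key 1 0 1 (MonObj.one_comp _), MonObj.one_comp]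
  · obtain ⟨f, hf⟩ := Stat.exists_incl (hℓ (J a)) (hℓ (J a + J b)) (pow_dvd_pow q (Nat.le_add_right _ _))
    obtain ⟨f', hf'⟩ := Stat.exists_incl (hℓ (J b)) (hℓ (J a + J b)) (pow_dvd_pow q (Nat.le_add_left _ _))
    have := hum (J a + J b)
    have := (hℓ (J a + J b)).mon
    have h1 : ((y a ≫ f) * (y b ≫ f')) ≫ ℓ (J a + J b) = (a * b).1 := by
      rw [MonObj.mul_comp, Category.assoc, Category.assoc, hf, hf', hy, hy]
      rfl
    rw [key (a * b) _ _ h1, MonObj.mul_comp, Category.assoc, Category.assoc, hu _ _ f hf, hu _ _ f' hf']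

end theta

variable {K : Type u} [Field K] [IsAlgClosed K]

/-- A point of the ambient group commuting with the rational points of a finite étale subgroup commutes with it. -/
theorem cent_of_pts {F G : Over (Spec (CommRingCat.of K))} [GrpObj G] [LocallyOfFiniteType F.hom]
    [IsReduced F.left] [IsSeparated G.hom] (u : F ⟶ G) (g : 𝟙_ (Over (Spec (CommRingCat.of K))) ⟶ G)
    (h : ∀ y : 𝟙_ (Over (Spec (CommRingCat.of K))) ⟶ F, g * (y ≫ u) = (y ≫ u) * g) : Cent u g := by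
  have key : (toUnit F ≫ g) * u = u * (toUnit F ≫ g) := by
    refine hom_ext_of_points _ _ fun x => ?_
    rw [MonObj.comp_mul, MonObj.comp_mul, ← Category.assoc, toUnit_unique (x ≫ toUnit F) (𝟙 _), Category.id_comp]
    exact h x
  intro X' x t
  have h1 := congrArg (t ≫ ·) key
  simp only [MonObj.comp_mul] at h1
  rw [← Category.assoc, toUnit_unique (t ≫ toUnit F) x] at h1
  exact h1

/-- An open and closed subgroup of a connected group is everything. -/
theorem surjective_of_clopen {H Z : Over (Spec (CommRingCat.of K))} [GrpObj H] [GrpObj Z]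
    [LocallyOfFiniteType H.hom] [LocallyOfFiniteType Z.hom] [QuasiCompact H.hom] [IsSeparated Z.hom]
    [ConnectedSpace Z.left] (h : H ⟶ Z) [IsMonHom h] [Mono h] [IsOpenImmersion h.left] : Surjective h.left := by
  have hqc' : QuasiCompact (h.left ≫ Z.hom) := by
    rw [Over.w]
    infer_instance
  have hqc : QuasiCompact h.left := QuasiCompact.of_comp h.left Z.hom
  have hcl : IsClosedImmersion h.left := S3036.result K H Z h
  have h1 : IsClopen (Set.range h.left) := ⟨h.left.isClosedEmbedding.isClosed_range, h.left.isOpenEmbedding.isOpen_range⟩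
  have h2 : (Set.range h.left).Nonempty := ⟨_, pt η[H], rfl⟩
  exact ⟨Set.range_eq_univ.1 (h1.eq_univ h2)⟩

/-- **The rational points commuting with the torsion of `q`-power order.** -/
theorem main {G T H : Over (Spec (CommRingCat.of K))} [GrpObj G] [GrpObj T] [GrpObj H]
    [Smooth G.hom] [QuasiCompact G.hom] [ConnectedSpace G.left] [LocallyOfFiniteType H.hom] [QuasiCompact H.hom]
    (hT : Red.IsTorus T) (q : ℕ) (hq : q.Prime) (hqK : (q : K) ≠ 0)
    (F : ℕ → Over (Spec (CommRingCat.of K))) [∀ j, GrpObj (F j)] (hF : ∀ j, Etale (F j).hom)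
    (ℓ : ∀ j, F j ⟶ T) (hℓ : ∀ j, IsTors (q ^ j) (ℓ j))
    (u : ∀ j, F j ⟶ G) (hum : ∀ j, IsMonHom (u j)) (hu : ∀ (j l : ℕ) (f : F j ⟶ F l), f ≫ ℓ l = ℓ j → f ≫ u l = u j)
    (i : H ⟶ G) [IsMonHom i] [Mono i] (hi : ∀ j, Cent (u j) i)
    (N : ℕ) {Z : Over (Spec (CommRingCat.of K))} [GrpObj Z] (z : Z ⟶ G) (hz : Red.IsCentralizerOf (u N) z)
    (hzc : IsClosedImmersion z.left) (v : H ⟶ Z) (hv : v ≫ z = i) (hvo : IsOpenImmersion v.left)
    (g : 𝟙_ (Over (Spec (CommRingCat.of K))) ⟶ G) (hg : ∀ j, Cent (u j) g) :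
    ∃ h : 𝟙_ (Over (Spec (CommRingCat.of K))) ⟶ H, h ≫ i = g := by
  have hGsep : IsSeparated G.hom := Groth.Agent.Localalg.GrpSchComp2.isSeparated_hom G
  have hzm := hz.2.1
  have hc := Sga3.H784.MaxImg.mul_comm_pts hT
  obtain ⟨θ, hθ⟩ := exists_theta hc q F ℓ hℓ u hum hu
  let _ := cgT hc
  have hex : ∀ a : qtorsG q (𝟙_ (Over (Spec (CommRingCat.of K))) ⟶ T), ∃ (j : ℕ)
      (y : 𝟙_ (Over (Spec (CommRingCat.of K))) ⟶ F j), y ≫ ℓ j = a.1 := by
    rintro ⟨a, j, hj⟩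
    exact ⟨j, ((hℓ j).pts _ a).2 hj⟩
  obtain ⟨T₁, _, i₁, hi₁, hi₁m, hT₁, hcent⟩ := Fib.main θ (fun a => by
      obtain ⟨a, j, hj⟩ := a
      refine ⟨q ^ j, ?_, Subtype.ext hj⟩
      rw [Nat.cast_pow]
      exact pow_ne_zero _ hqK)
    (qtorsG_div hq fun n a hn => Sga3.H784.Commute.exists_pow_eq hT a hn)
  -- points commuting with all `u j` centralize `T₁`
  have hcent' : ∀ {X : Over (Spec (CommRingCat.of K))} (g : X ⟶ G), (∀ j, Cent (u j) g) → Cent i₁ g := by
    intro X g hg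
    refine (hcent X g).2 fun a => ?_
    obtain ⟨j, y, hy⟩ := hex a
    have h1 := hg j X (𝟙 X) (toUnit X ≫ y)
    rw [Category.id_comp, Category.assoc] at h1
    rw [hθ a j y hy]
    exact h1
  obtain ⟨C, _, c, hcc, hccl, hcs, -⟩ := Sga3.H798.CentSep.exists_smooth_centralizer (G := G) i₁ hT₁
  have hcm := hcc.1
  have hcmono := hcc.2.1
  have hCconn : ConnectedSpace C.left := Sga3.H831.CartFacts.connectedSpace_centralizer i₁ hT₁ hcc
  have hCred : IsReduced C.left := isReduced_of_smooth C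
  obtain ⟨h₁, hh₁⟩ := (hcc.2.2 _ i).2 (hcent' i hi)
  have hh₁m : IsMonHom (h₁ ≫ c) := by rw [hh₁]; infer_instance
  have hh₁m' : IsMonHom h₁ := Sga3C.SubGrp.isMonHom_of_comp_mono h₁ c
  have hh₁mono : Mono h₁ := by
    have : Mono (h₁ ≫ c) := by rw [hh₁]; infer_instance
    exact mono_of_mono h₁ c
  -- `C` lies in `Z`
  obtain ⟨m, hm⟩ := exists_factor z c (fun r => by
    refine (hz.2.2 _ (r ≫ c)).2 ?_
    have hred : IsReduced (F N).left := by
      have := hF N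
      exact isReduced_of_smooth (F N)
    have hlft : LocallyOfFiniteType (F N).hom := by
      have := hF N
      infer_instance
    refine cent_of_pts (u N) (r ≫ c) fun y => ?_
    have h1 : Cent i₁ (r ≫ c) := (cent_of_isCentralizerOf hcc).comp r
    have hya : y ≫ ℓ N ∈ qtorsG q (𝟙_ (Over (Spec (CommRingCat.of K))) ⟶ T) :=
      ⟨N, ((hℓ N).pts _ _).1 ⟨y, rfl⟩⟩
    have h2 := (hcent _ _).1 h1 ⟨_, hya⟩
    rw [hθ ⟨_, hya⟩ N y rfl, toUnit_unique (toUnit _) (𝟙 _), Category.id_comp] at h2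
    exact h2)
  have hmm : Mono m := by
    have : Mono (m ≫ z) := by rw [hm]; infer_instance
    exact mono_of_mono m z
  have hh₁v : h₁ ≫ m = v := by
    rw [← cancel_mono z, Category.assoc, hm, hh₁, hv]
  have sq : IsPullback (𝟙 H) h₁ v m := by
    refine IsPullback.of_isLimit' ⟨by rw [Category.id_comp, hh₁v]⟩ (PullbackCone.IsLimit.mk _ (fun s => s.fst)
      (fun s => Category.comp_id _) (fun s => ?_) (fun s t ht _ => by rw [← ht, Category.comp_id]))
    rw [← cancel_mono m, Category.assoc, hh₁v]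
    exact s.condition
  have hopen : IsOpenImmersion h₁.left :=
    MorphismProperty.of_isPullback (sq.map (Over.forget _)) hvo
  have hCsep : IsSeparated C.hom := by
    rw [← Over.w c]; infer_instance
  have hsurj : Surjective h₁.left := surjective_of_clopen h₁
  obtain ⟨g', hg'⟩ := (hcc.2.2 _ g).2 (hcent' g hg)
  obtain ⟨h, hh⟩ := Sga3.H784.LiftTorus.exists_lift_of_surjective h₁ g'
  exact ⟨h, by rw [← hg', ← hh, Category.assoc, hh₁]⟩

end K13.HC.FibMain
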