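import Groth.Agent.S17447
import Groth.Agent.S0239
import Groth.Agent.S2787

/-!
# Morphisms from finite schemes to étale schemes over a local base

* `exists_open_eq`: the locus of coincidence of two morphisms to an étale scheme;
* `eq_of_map_eq`: over a local ring, morphisms from a proper scheme to an étale scheme are determined by their
  restriction to the closed fibre;
* `exists_lift`: over a henselian local ring, morphisms from a finite étale scheme to an étale separated scheme lift
  from the closed fibre.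
-/

set_option autoImplicit false
universe u

open CategoryTheory CategoryTheory.Limits AlgebraicGeometry

namespace K13.HC.FinEt

section eq

variable {S : Scheme.{u}} {F X : Over S}

lemma diag_w (a b : F ⟶ X) : a.left ≫ X.hom = b.left ≫ X.hom := by rw [Over.w, Over.w]

/-- The locus of coincidence. -/
noncomputable def eqι (a b : F ⟶ X) :
    pullback (pullback.lift a.left b.left (diag_w a b)) (pullback.diagonal X.hom) ⟶ F.left :=
  pullback.fst _ _

lemma eqι_comp (a b : F ⟶ X) : eqι a b ≫ a.left = eqι a b ≫ b.left := by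
  have h := pullback.condition (f := pullback.lift a.left b.left (diag_w a b)) (g := pullback.diagonal X.hom)
  have h1 := congrArg (· ≫ pullback.fst _ _) h
  have h2 := congrArg (· ≫ pullback.snd _ _) h
  simp only [Category.assoc, pullback.lift_fst, pullback.lift_snd, pullback.diagonal_fst, pullback.diagonal_snd] at h1 h2
  exact h1.trans h2.symm

lemma exists_fac (a b : F ⟶ X) {T : Scheme.{u}} (t : T ⟶ F.left) (h : t ≫ a.left = t ≫ b.left) :
    ∃ s, s ≫ eqι a b = t := by
  refine ⟨pullback.lift t (t ≫ a.left) ?_, pullback.lift_fst _ _ _⟩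
  apply pullback.hom_ext
  · simp only [Category.assoc, pullback.diagonal_fst, Category.comp_id]
    exact congrArg (t ≫ ·) (pullback.lift_fst _ _ _)
  · simp only [Category.assoc, pullback.diagonal_snd, Category.comp_id]
    exact (congrArg (t ≫ ·) (pullback.lift_snd _ _ _)).trans h.symm

/-- The locus of coincidence of two morphisms to an étale scheme is open. -/
theorem exists_open_eq [Etale X.hom] (a b : F ⟶ X) : ∃ V : F.left.Opens, V.ι ≫ a.left = V.ι ≫ b.left ∧
    (∀ {T : Scheme.{u}} (t : T ⟶ F.left), t ≫ a.left = t ≫ b.left → ∀ x, t x ∈ V) ∧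
    (IsSeparated X.hom → IsClosed (V : Set F.left)) := by
  have h1 : IsOpenImmersion (eqι a b) := by
    unfold eqι; infer_instance
  refine ⟨(eqι a b).opensRange, ?_, fun t ht x => ?_, fun hs => ?_⟩
  · let l := IsOpenImmersion.lift (eqι a b) (eqι a b).opensRange.ι (by simp)
    have hl : l ≫ eqι a b = (eqι a b).opensRange.ι := IsOpenImmersion.lift_fac _ _ _
    rw [← hl, Category.assoc, Category.assoc, eqι_comp]
  · obtain ⟨s, rfl⟩ := exists_fac a b t ht
    exact ⟨s x, rfl⟩
  · have h2 : IsClosedImmersion (eqι a b) := by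
      unfold eqι; infer_instance
    exact (eqι a b).isClosedEmbedding.isClosed_range

/-- Morphisms to an étale scheme which coincide on an open subset with all points. -/
lemma eq_of_top {a b : F ⟶ X} {V : F.left.Opens} (h : V.ι ≫ a.left = V.ι ≫ b.left) (hV : ∀ x, x ∈ V) : a = b := by
  have h1 : V = ⊤ := by
    ext x
    simpa using hV x
  subst h1
  have : IsIso (⊤ : F.left.Opens).ι := by rw [← Scheme.topIso_hom]; infer_instance
  ext1
  exact (cancel_epi _).1 h

end eq

section local'

open IsLocalRing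

variable {A : Type u} [CommRing A] [IsLocalRing A]

/-- The closed point. -/
noncomputable abbrev ι (A : Type u) [CommRing A] [IsLocalRing A] :
    Spec (CommRingCat.of (A ⧸ maximalIdeal A)) ⟶ Spec (CommRingCat.of A) :=
  Spec.map (CommRingCat.ofHom (Ideal.Quotient.mk (maximalIdeal A)))

lemma exists_ι (s : Spec (CommRingCat.of (A ⧸ maximalIdeal A))) : ι A s = closedPoint A := by
  apply PrimeSpectrum.ext
  have hs := s.2
  have h1 : maximalIdeal A ≤ (ι A s).asIdeal := by
    intro a ha
    change Ideal.Quotient.mk (maximalIdeal A) a ∈ s.asIdeal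
    rw [Ideal.Quotient.eq_zero_iff_mem.2 ha]
    exact zero_mem _
  exact ((maximalIdeal.isMaximal A).eq_of_le (ι A s).2.ne_top h1).symm

/-- Points over the closed point come from the closed fibre. -/
lemma exists_fibre_point {F : Over (Spec (CommRingCat.of A))} (x : F.left) (hx : F.hom x = closedPoint A) :
    ∃ y : ((Over.pullback (ι A)).obj F).left, pullback.fst F.hom (ι A) y = x := by
  obtain ⟨s⟩ : Nonempty (Spec (CommRingCat.of (A ⧸ maximalIdeal A))) := inferInstance
  obtain ⟨y, hy, -⟩ := Scheme.Pullback.exists_preimage_pullback (f := F.hom) (g := ι A) x s (by rw [hx, exists_ι])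
  exact ⟨y, hy⟩

/-- An open subset of a proper scheme over a local scheme which contains the closed fibre is everything. -/
lemma mem_of_closed {F : Over (Spec (CommRingCat.of A))} [UniversallyClosed F.hom] (V : F.left.Opens)
    (h : ∀ x, F.hom x = closedPoint A → x ∈ V) (x : F.left) : x ∈ V := by
  by_contra hx
  have hcl : IsClosed (F.hom '' (V : Set F.left)ᶜ) := F.hom.isClosedMap _ V.2.isClosed_compl
  have h1 : closedPoint A ∈ F.hom '' (V : Set F.left)ᶜ := by
    have h2 : F.hom x ∈ F.hom '' (V : Set F.left)ᶜ := ⟨x, hx, rfl⟩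
    exact (specializes_closedPoint (F.hom x)).mem_closed hcl h2
  obtain ⟨y, hy, hy'⟩ := h1
  exact hy (h y hy')

lemma map_left_fst {F X : Over (Spec (CommRingCat.of A))} (a : F ⟶ X) :
    ((Over.pullback (ι A)).map a).left ≫ pullback.fst X.hom (ι A) = pullback.fst F.hom (ι A) ≫ a.left :=
  pullback.lift_fst _ _ _

/-- **Uniqueness.** -/
theorem eq_of_map_eq {F X : Over (Spec (CommRingCat.of A))} [UniversallyClosed F.hom] [Etale X.hom] {a b : F ⟶ X}
    (h : (Over.pullback (ι A)).map a = (Over.pullback (ι A)).map b) : a = b := by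
  obtain ⟨V, hV, hV', -⟩ := exists_open_eq a b
  refine eq_of_top hV (mem_of_closed V fun x hx => ?_)
  obtain ⟨y, rfl⟩ := exists_fibre_point x hx
  exact hV' _ (by rw [← map_left_fst, ← map_left_fst, h]) y

section hens

variable {A : Type u} [CommRing A] [HenselianLocalRing A]

/-- Existence, the target being finite étale. -/
theorem exists_lift_fin {F X : Over (Spec (CommRingCat.of A))} [IsFinite F.hom] [Etale F.hom] [IsFinite X.hom]
    [Etale X.hom] (u₀ : (Over.pullback (ι A)).obj F ⟶ (Over.pullback (ι A)).obj X) :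
    ∃ u : F ⟶ X, (Over.pullback (ι A)).map u = u₀ := by
  have hE : (FEt.restrict (ι A)).IsEquivalence := Groth.Agent.S0239.result A (maximalIdeal A)
  let F' : FEt.Cat (Spec (CommRingCat.of A)) := MorphismProperty.Over.mk ⊤ F.hom ⟨inferInstance, inferInstance⟩
  let X' : FEt.Cat (Spec (CommRingCat.of A)) := MorphismProperty.Over.mk ⊤ X.hom ⟨inferInstance, inferInstance⟩
  let u₀' : (FEt.restrict (ι A)).obj F' ⟶ (FEt.restrict (ι A)).obj X' :=
    MorphismProperty.Over.homMk u₀.left (Over.w u₀) trivial
  obtain ⟨φ, hφ⟩ := (FEt.restrict (ι A)).map_surjective u₀'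
  refine ⟨Over.homMk φ.left (Over.w φ.hom), ?_⟩
  ext1
  have h1 : ((FEt.restrict (ι A)).map φ).left = u₀.left := by rw [hφ]; rfl
  rw [← h1]
  rfl

omit [CommRing A] [HenselianLocalRing A] in
/-- A quasi-compact open neighbourhood of a compact subset. -/
lemma exists_compact_open {X : Scheme.{u}} {C : Set X} (hC : IsCompact C) : ∃ U : X.Opens, IsCompact (U : Set X) ∧
    C ⊆ U := by
  choose V hV hxV using fun x : X => exists_isAffineOpen_mem_and_subset (U := ⊤) (x := x) trivial
  obtain ⟨t, ht⟩ := hC.elim_finite_subcover (fun x : X => (V x : Set X)) (fun x => (V x).2)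
    (fun x _ => Set.mem_iUnion.2 ⟨x, (hxV x).1⟩)
  refine ⟨⟨⋃ x ∈ t, (V x : Set X), isOpen_biUnion fun x _ => (V x).2⟩, ?_, ht⟩
  exact t.isCompact_biUnion fun x _ => (hV x).isCompact

/-- **Existence.** -/
theorem exists_lift {F X : Over (Spec (CommRingCat.of A))} [IsFinite F.hom] [Etale F.hom] [Etale X.hom]
    [IsSeparated X.hom] (u₀ : (Over.pullback (ι A)).obj F ⟶ (Over.pullback (ι A)).obj X) :
    ∃ u : F ⟶ X, (Over.pullback (ι A)).map u = u₀ := by
  let f₀ : ((Over.pullback (ι A)).obj F).left ⟶ X.left := u₀.left ≫ pullback.fst X.hom (ι A)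
  have hfin : IsFinite ((Over.pullback (ι A)).obj F).hom := inferInstanceAs (IsFinite (pullback.snd _ _))
  have hcomp : CompactSpace ((Over.pullback (ι A)).obj F).left :=
    QuasiCompact.compactSpace_of_compactSpace ((Over.pullback (ι A)).obj F).hom
  obtain ⟨U, hU, hrU⟩ := exists_compact_open (isCompact_range f₀.continuous)
  let X₁ : Over (Spec (CommRingCat.of A)) := Over.mk (U.ι ≫ X.hom)
  have h1 : Etale X₁.hom := inferInstanceAs (Etale (U.ι ≫ X.hom))
  have h2 : IsSeparated X₁.hom := inferInstanceAs (IsSeparated (U.ι ≫ X.hom))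
  have h3 : LocallyQuasiFinite X₁.hom := Groth.Agent.S2787.locallyQuasiFinite_of_etale X₁.hom
  have h4 : CompactSpace U := isCompact_iff_compactSpace.mp hU
  have h4' : CompactSpace X₁.left := h4
  have h5 : QuasiCompact X₁.hom := inferInstance
  obtain ⟨W, ⟨hWc, hWf, hWs⟩, -⟩ := Groth.Agent.S17447.result A X₁.hom
  let Y : Over (Spec (CommRingCat.of A)) := Over.mk (W.ι ≫ X₁.hom)
  have h6 : IsFinite Y.hom := hWf
  have h7 : Etale Y.hom := inferInstanceAs (Etale (W.ι ≫ X₁.hom))
  let j : Y ⟶ X := Over.homMk (W.ι ≫ U.ι) (by simp [Y, X₁])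
  have hj : IsOpenImmersion j.left := inferInstanceAs (IsOpenImmersion (W.ι ≫ U.ι))
  have hr : Set.range f₀ ⊆ Set.range j.left := by
    rintro _ ⟨z, rfl⟩
    have hz : f₀ z ∈ U := hrU ⟨z, rfl⟩
    let w : X₁.left := ⟨f₀ z, hz⟩
    have hw : w ∈ W := by
      refine hWs w ?_
      change X.hom (f₀ z) = closedPoint A
      have h8 : f₀ ≫ X.hom = ((Over.pullback (ι A)).obj F).hom ≫ ι A := by
        have h9 : pullback.fst X.hom (ι A) ≫ X.hom = pullback.snd X.hom (ι A) ≫ ι A := pullback.condition
        rw [Category.assoc, h9, ← Category.assoc]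
        exact congrArg (· ≫ ι A) (Over.w u₀)
      rw [← Scheme.Hom.comp_apply, h8, Scheme.Hom.comp_apply, exists_ι]
    exact ⟨⟨w, hw⟩, rfl⟩
  let l := IsOpenImmersion.lift j.left f₀ hr
  have hl : l ≫ j.left = f₀ := IsOpenImmersion.lift_fac _ _ _
  have hl' : l ≫ Y.hom = ((Over.pullback (ι A)).obj F).hom ≫ ι A := by
    rw [← Over.w j, ← Category.assoc, hl]
    have h9 : pullback.fst X.hom (ι A) ≫ X.hom = pullback.snd X.hom (ι A) ≫ ι A := pullback.condition
    rw [Category.assoc, h9, ← Category.assoc]
    exact congrArg (· ≫ ι A) (Over.w u₀)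
  let u₁ : (Over.pullback (ι A)).obj F ⟶ (Over.pullback (ι A)).obj Y :=
    Over.homMk (pullback.lift l ((Over.pullback (ι A)).obj F).hom hl') (pullback.lift_snd _ _ _)
  have hu₁ : u₁ ≫ (Over.pullback (ι A)).map j = u₀ := by
    ext1
    apply pullback.hom_ext
    · have h9 : ((Over.pullback (ι A)).map j).left ≫ pullback.fst X.hom (ι A) = pullback.fst Y.hom (ι A) ≫ j.left :=
        pullback.lift_fst _ _ _
      have h10 : u₁.left ≫ pullback.fst Y.hom (ι A) = l := pullback.lift_fst _ _ _
      rw [Over.comp_left, Category.assoc, h9, ← Category.assoc, h10, hl]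
    · exact (Over.w (u₁ ≫ (Over.pullback (ι A)).map j)).trans (Over.w u₀).symm
  obtain ⟨u₂, hu₂⟩ := exists_lift_fin u₁
  exact ⟨u₂ ≫ j, by rw [Functor.map_comp, hu₂, hu₁]⟩

end hens

end local'

end K13.HC.FinEt
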