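import Groth.Agent.SGA3x.K13.HC.TorsDens
import Groth.Agent.SGA3x.K12.DenseRep
import Groth.Agent.Sga3B.TorusBc
import Groth.Agent.Sga3B.MaxTorNear900

/-!
# Over a field, the centralizer of a torus is the centralizer of its `q^j`-torsion, `j` large
-/

set_option autoImplicit false
universe u
open CategoryTheory MonoidalCategory CartesianMonoidalCategory MonObj GrpObj AlgebraicGeometry Limits

namespace K13.HC.Stat

open Groth.Agent Groth.Agent.Sga3B Groth.Agent.Sga3B.BcPts K13.NTorsion K18.CentQuot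

/-- Base change of centralization. -/
theorem cent_bc {S S' : Scheme.{u}} (f : S' ⟶ S) {G T X : Over S} [GrpObj G] {i : T ⟶ G} {g : X ⟶ G}
    (h : Cent i g) : Cent ((Over.pullback f).map i) ((Over.pullback f).map g) := by
  intro X' x t
  apply (bcMulEquiv f X' G).symm.injective
  rw [map_mul, map_mul]
  have e1 : (bcMulEquiv f X' G).symm (x ≫ (Over.pullback f).map g) = (bcEquiv f X' X).symm x ≫ g :=
    bcEquiv_symm_comp f x g
  have e2 : (bcMulEquiv f X' G).symm (t ≫ (Over.pullback f).map i) = (bcEquiv f X' T).symm t ≫ i :=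
    bcEquiv_symm_comp f t i
  rw [e1, e2]
  exact h _ _ _

/-- Inclusions between torsion subgroups. -/
lemma exists_incl {S : Scheme.{u}} {L L' T : Over S} [GrpObj L] [GrpObj L'] [GrpObj T] {ℓ : L ⟶ T} {ℓ' : L' ⟶ T}
    {a b : ℕ} (h : IsTors a ℓ) (h' : IsTors b ℓ') (hab : a ∣ b) : ∃ f : L ⟶ L', f ≫ ℓ' = ℓ := by
  refine (h'.pts L ℓ).2 ?_
  obtain ⟨c, rfl⟩ := hab
  rw [pow_mul, (h.pts L ℓ).1 ⟨𝟙 _, Category.id_comp _⟩, _root_.one_pow]

/-- Over a field, a point centralizing the torsion of `q`-power order of a torus centralizes the torus. -/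
theorem cent_of_forall {k : Type u} [Field k] {G T X : Over (Spec (CommRingCat.of k))} [GrpObj G] [GrpObj T]
    [IsSeparated G.hom] (τ : T ⟶ G) (hT : Red.IsTorus T) (q : ℕ) (hq : 1 < q) (hqk : (q : k) ≠ 0)
    (F : ℕ → Over (Spec (CommRingCat.of k))) [∀ j, GrpObj (F j)] (ℓ : ∀ j, F j ⟶ T) (hℓ : ∀ j, IsTors (q ^ j) (ℓ j))
    (g : X ⟶ G) (hg : ∀ j, Cent (ℓ j ≫ τ) g) : Cent τ g := by
  intro X' x t
  let K := AlgebraicClosure k
  let c : Spec (CommRingCat.of K) ⟶ Spec (CommRingCat.of k) := Spec.map (CommRingCat.ofHom (algebraMap k K))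
  have hc1 : Flat c := inferInstance
  have hc2 : Surjective c := inferInstance
  have hqK : (q : K) ≠ 0 := by
    intro h0
    apply hqk
    have h1 : algebraMap k K q = 0 := by rw [map_natCast]; exact h0
    exact (map_eq_zero _).1 h1
  have hs : IsSeparated (Red.bc c G).hom := inferInstanceAs (IsSeparated (pullback.snd _ _))
  apply MaxTorNear900.eq_of_bc c
  rw [Functor.map_mul, Functor.map_mul, Functor.map_comp _ t τ]
  refine TorsDens.comm_of_torsion q hq hqK (TorusBc.isTorus_bc c hT) ((Over.pullback c).map τ)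
    ((Over.pullback c).map (x ≫ g)) (fun j y hy => ?_) ((Over.pullback c).map t)
  obtain ⟨y', rfl⟩ := (((hℓ j).bc c).pts _ y).2 hy
  have h1 : Cent (ℓ j ≫ τ) (x ≫ g) := (hg j).comp x
  have h2 := cent_bc c h1 _ (𝟙 _) (toUnit ((Over.pullback c).obj X') ≫ y')
  rw [Category.id_comp, Functor.map_comp _ (ℓ j) τ] at h2
  simp only [Category.assoc] at h2 ⊢
  exact h2

/-- **The centralizer of a torus is the centralizer of its `q^j`-torsion for `j` large.** -/
theorem exists_index {k : Type u} [Field k] {G T H : Over (Spec (CommRingCat.of k))} [GrpObj G] [GrpObj T] [GrpObj H]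
    [LocallyOfFiniteType G.hom] [QuasiCompact G.hom] [IsSeparated G.hom] (τ : T ⟶ G)
    (hT : Red.IsTorus T) (i : H ⟶ G) (hi : Red.IsCentralizerOf τ i) (q : ℕ) (hq : 1 < q) (hqk : (q : k) ≠ 0)
    (F : ℕ → Over (Spec (CommRingCat.of k))) [∀ j, GrpObj (F j)] (ℓ : ∀ j, F j ⟶ T) (hℓ : ∀ j, IsTors (q ^ j) (ℓ j))
    (Z : ℕ → Over (Spec (CommRingCat.of k))) [∀ j, GrpObj (Z j)] (z : ∀ j, Z j ⟶ G)
    (hz : ∀ j, Red.IsCentralizerOf (ℓ j ≫ τ) (z j)) (hzc : ∀ j, IsClosedImmersion (z j).left) :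
    ∃ N, ∀ j, N ≤ j → ∃ w : Z j ⟶ H, w ≫ i = z j := by
  have hmono : ∀ j l, j ≤ l → ∀ {X : Over (Spec (CommRingCat.of k))} {g : X ⟶ G}, Cent (ℓ l ≫ τ) g →
      Cent (ℓ j ≫ τ) g := by
    intro j l hjl X g hg X' x t
    obtain ⟨f, hf⟩ := exists_incl (hℓ j) (hℓ l) (pow_dvd_pow q hjl)
    have := hg X' x (t ≫ f)
    rw [← hf]
    simpa only [Category.assoc] using this
  have hcent : ∀ j, Cent (ℓ j ≫ τ) (z j) := fun j => cent_of_isCentralizerOf (hz j)
  have hle : ∀ j l, j ≤ l → (z j).left.ker ≤ (z l).left.ker := by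
    intro j l hjl
    obtain ⟨a, ha⟩ := ((hz j).2.2 _ (z l)).2 (hmono j l hjl (hcent l))
    have ha' : a.left ≫ (z j).left = (z l).left := congrArg CommaMorphism.left ha
    rw [← ha']
    exact Scheme.Hom.le_ker_comp _ _
  have hN : AlgebraicGeometry.IsNoetherian G.left := by
    have h1 : IsLocallyNoetherian G.left := LocallyOfFiniteType.isLocallyNoetherian G.hom
    have h2 : CompactSpace G.left := QuasiCompact.compactSpace_of_compactSpace G.hom
    exact {}
  obtain ⟨n₀, hn₀⟩ := K12.DenseRep.exists_max (fun n : ULift.{u} ℕ => (z n.down).left.ker) (by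
    intro n m
    exact ⟨⟨n.down + m.down⟩, hle _ _ (Nat.le_add_right _ _), hle _ _ (Nat.le_add_left _ _)⟩)
  refine ⟨n₀.down, fun j hj => (hi.2.2 _ (z j)).2 (cent_of_forall τ hT q hq hqk F ℓ hℓ (z j) fun m => ?_)⟩
  have hm1 : IsClosedImmersion (z m).left := hzc m
  have hm2 : IsClosedImmersion (z j).left := hzc j
  have hker : (z m).left.ker ≤ (z j).left.ker := (hn₀ ⟨m⟩).trans (hle _ _ hj)
  let b : (Z j).left ⟶ (Z m).left := IsClosedImmersion.lift (z m).left (z j).left hker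
  have hb : b ≫ (z m).left = (z j).left := IsClosedImmersion.lift_fac _ _ _
  have h1 : (Over.homMk b (by rw [← Over.w (z m), ← Category.assoc, hb, Over.w]) : Z j ⟶ Z m) ≫ z m = z j := by
    ext1
    exact hb
  rw [← h1]
  exact (hcent m).comp _

end K13.HC.Stat
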