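import Groth.Agent.SGA3x.K13.HC.Fib
import Groth.Agent.SGA3x.K13.NTorsion

/-!
# Density of the torsion points of `q`-power order in a torus

`K` algebraically closed, `q > 1` invertible in `K`, `T` a torus: a point commuting with the images of the rational
points of `T` of `q`-power order commutes with the image of `T`.
-/

set_option autoImplicit false
universe u v

namespace K13.HC.TorsDens

section alg

variable {K : Type u} [Field K]

/-- The elements of `q`-power order. -/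
def qtorsG (q : ℕ) (G : Type v) [CommGroup G] : Subgroup G where
  carrier := {a | ∃ j : ℕ, a ^ (q ^ j) = 1}
  mul_mem' := by
    rintro a b ⟨j, hj⟩ ⟨l, hl⟩
    refine ⟨j + l, ?_⟩
    have h1 : a ^ q ^ (j + l) = 1 := by rw [pow_add, pow_mul, hj, one_pow]
    have h2 : b ^ q ^ (j + l) = 1 := by rw [add_comm, pow_add, pow_mul, hl, one_pow]
    rw [mul_pow, h1, h2, one_mul]
  one_mem' := ⟨0, one_pow _⟩
  inv_mem' := by
    rintro a ⟨j, hj⟩
    exact ⟨j, by rw [inv_pow, hj, inv_one]⟩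

lemma mem_qtorsG {q : ℕ} {G : Type v} [CommGroup G] {a : G} : a ∈ qtorsG q G ↔ ∃ j : ℕ, a ^ (q ^ j) = 1 := Iff.rfl

/-- The characters of `q`-power order. -/
abbrev qtors (q : ℕ) (M : Type) [CommGroup M] (K : Type u) [Field K] : Subgroup (M →* Kˣ) := qtorsG q (M →* Kˣ)

/-- Evaluation. -/
def ev (q : ℕ) (M : Type) [CommGroup M] (K : Type u) [Field K] : M →* (qtors q M K →* Kˣ) where
  toFun m := (MonoidHom.eval m).comp (qtors q M K).subtype
  map_one' := MonoidHom.ext fun a => map_one a.1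
  map_mul' m m' := MonoidHom.ext fun a => map_mul a.1 m m'

theorem ev_injective [IsAlgClosed K] (q : ℕ) (hq : 1 < q) (hqK : (q : K) ≠ 0) (r : ℕ) :
    Function.Injective (ev q (Multiplicative (Fin r → ℤ)) K) := by
  rw [injective_iff_map_eq_one]
  intro m hm
  by_contra hne
  obtain ⟨i, hi⟩ : ∃ i, m.toAdd i ≠ 0 := by
    by_contra h
    push Not at h
    exact hne (Multiplicative.toAdd.injective (funext h))
  obtain ⟨j, hj⟩ : ∃ j : ℕ, (m.toAdd i).natAbs < q ^ j := ⟨_, (m.toAdd i).natAbs.lt_pow_self hq⟩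
  have h0 : ((q ^ j : ℕ) : K) ≠ 0 := by
    rw [Nat.cast_pow]
    exact pow_ne_zero _ hqK
  have : NeZero ((q ^ j : ℕ) : K) := ⟨h0⟩
  obtain ⟨ζ, hζ⟩ := HasEnoughRootsOfUnity.exists_primitiveRoot K (q ^ j)
  have hqj : q ^ j ≠ 0 := (Nat.pos_of_ne_zero (by rintro h; rw [h] at hj; exact Nat.not_lt_zero _ hj)).ne'
  let ζ' : Kˣ := (hζ.isUnit hqj).unit
  have hζ' : IsPrimitiveRoot ζ' (q ^ j) := hζ.isUnit_unit hqj
  let a : Multiplicative (Fin r → ℤ) →* Kˣ :=
    { toFun := fun m => ζ' ^ (m.toAdd i)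
      map_one' := zpow_zero _
      map_mul' := fun x y => zpow_add _ _ _ }
  have ha : a ^ (q ^ j) = 1 := by
    refine MonoidHom.ext fun x => ?_
    change (ζ' ^ (x.toAdd i)) ^ (q ^ j) = 1
    rw [← zpow_natCast, zpow_comm, zpow_natCast, hζ'.pow_eq_one, one_zpow]
  have h1 : a m = 1 := DFunLike.congr_fun hm ⟨a, j, ha⟩
  have h2 : (q ^ j : ℤ) ∣ m.toAdd i := by
    have := (hζ'.zpow_eq_one_iff_dvd (m.toAdd i)).1 h1
    exact_mod_cast this
  have h3 := Int.natAbs_dvd_natAbs.2 h2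
  have h4 : (q ^ j : ℤ).natAbs = q ^ j := by
    rw [Int.natAbs_pow, Int.natAbs_natCast]
  rw [h4] at h3
  exact absurd (Nat.le_of_dvd (Int.natAbs_pos.2 hi) h3) (not_le.2 hj)

end alg

end K13.HC.TorsDens

open CategoryTheory MonoidalCategory CartesianMonoidalCategory MonObj GrpObj AlgebraicGeometry Limits
open Groth.Agent.Books.AffBridge Groth.Agent.Books.AffBridge2

namespace K13.HC.TorsDens

open Groth.Agent Groth.Agent.Sga3B.RG Groth.Agent.Sga3B.RG.BrPts Groth.Agent.Sga3B.RG.BrTorus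

variable {K : Type u} [Field K]

lemma evPt_eq {M : Type} [CommGroup M] {U : Type v} [CommGroup U] (c : M →* (U →* Kˣ)) (a : U) :
    Dens.evPt c a = ptEquiv K (MonoidAlgebra K M) (torPt M ((MonoidHom.eval a).comp c)) := by
  rw [ptEquiv_apply, Dens.evPt]
  rfl

variable [IsAlgClosed K]

/-- **Density of the torsion of `q`-power order in a torus.** -/
theorem comm_of_torsion (q : ℕ) (hq : 1 < q) (hqK : (q : K) ≠ 0) {T Q : Over (Spec (CommRingCat.of K))} [GrpObj T]
    [GrpObj Q] [IsSeparated Q.hom] (hT : Red.IsTorus T) (τ : T ⟶ Q) {X : Over (Spec (CommRingCat.of K))} (g : X ⟶ Q)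
    (hg : ∀ (j : ℕ) (x : 𝟙_ (Over (Spec (CommRingCat.of K))) ⟶ T), x ^ (q ^ j) = 1 →
      g * (toUnit X ≫ x ≫ τ) = (toUnit X ≫ x ≫ τ) * g) (t : X ⟶ T) : g * (t ≫ τ) = (t ≫ τ) * g := by
  obtain ⟨r, e, he⟩ := isTorus_iff.1 hT
  have h1 := Dens.comm (ev q (Multiplicative (Fin r → ℤ)) K) (ev_injective q hq hqK r) (e.inv ≫ τ) g (fun a => by
    obtain ⟨j, hj⟩ := a.2
    have he' : IsMonHom e.inv := inferInstance
    have h2 := hg j (Dens.evPt (ev q (Multiplicative (Fin r → ℤ)) K) a ≫ e.inv) (by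
      rw [← K13.NTorsion.pow_comp, evPt_eq]
      have h3 : ((MonoidHom.eval a).comp (ev q (Multiplicative (Fin r → ℤ)) K) :
          Multiplicative (Fin r → ℤ) →* Kˣ) = a.1 := rfl
      rw [h3, ← map_pow, ← map_pow, hj, map_one, map_one, MonObj.one_comp])
    rw [Category.assoc] at h2
    exact h2) (t ≫ e.hom)
  rw [Category.assoc, Iso.hom_inv_id_assoc] at h1
  exact h1

end K13.HC.TorsDens
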