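import Groth.Agent.SGA3x.K14.PowLift
import Groth.Agent.Sga3.H784.Conj
import Groth.Agent.S0346
import Groth.Agent.SGA3x.K13.NTorsion
import Groth.Agent.Sga3B.AdAff
import Groth.Agent.SGA3x.K13.HC.FinEt

/-!
# Torsion points in the étale locus of the power map are central

`H` a separated flat group scheme of finite presentation with geometrically irreducible fibres: the points of
`W H n` are central in `H`.
-/

set_option autoImplicit false
universe u
open CategoryTheory MonoidalCategory CartesianMonoidalCategory MonObj GrpObj AlgebraicGeometry CategoryTheory.Limits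
open K203.Loc K14.PowLift Groth.Agent.Sga3B.BcPts

namespace K13.HC.WCent

variable {S : Scheme.{u}}

section field

variable {H : Over S} [GrpObj H] [Flat H.hom] [LocallyOfFinitePresentation H.hom]

/-- Conjugation preserves the étale locus of the power map, over a field. -/
theorem conj_mem_field (n : ℕ) {K : Type u} [Field K] (b : Spec (CommRingCat.of K) ⟶ S) (z h : Over.mk b ⟶ H)
    (hz : ∀ p, z.left p ∈ E H n) (p : Spec (CommRingCat.of K)) : (h * z * h⁻¹).left p ∈ E H n := by
  let φ : (Over.map b).obj (𝟙_ (Over (Spec (CommRingCat.of K)))) ⟶ Over.mk b :=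
    Over.homMk (𝟙 _) (by simp)
  have hpt : ∀ y : Over.mk b ⟶ H, pullback.fst H.hom b ((bcEquiv b _ H (φ ≫ y)).left p) = y.left p := by
    intro y
    have h4 : (bcEquiv b _ H).symm (bcEquiv b _ H (φ ≫ y)) = φ ≫ y := Equiv.symm_apply_apply _ _
    have h5 : ((bcEquiv b _ H).symm (bcEquiv b _ H (φ ≫ y))).left =
        (bcEquiv b _ H (φ ≫ y)).left ≫ pullback.fst H.hom b := Groth.Agent.Sga3B.AdAff.bcEquiv_symm_left b _
    have h6 : (bcEquiv b _ H (φ ≫ y)).left ≫ pullback.fst H.hom b = y.left := by
      rw [← h5, h4]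
      exact Category.id_comp _
    exact congr(($h6) p)
  let g : 𝟙_ (Over (Spec (CommRingCat.of K))) ⟶ Red.bc b H := bcEquiv b _ H (φ ≫ z)
  let a : 𝟙_ (Over (Spec (CommRingCat.of K))) ⟶ Red.bc b H := bcEquiv b _ H (φ ≫ h)
  let κ := Groth.Agent.Sga3.H784.Conj.conjIso a
  have hκ : IsMonHom κ.hom := inferInstance
  have hgκ : bcEquiv b _ H (φ ≫ (h * z * h⁻¹)) = g ≫ κ.hom := by
    rw [Groth.Agent.Sga3.H784.Conj.comp_conjIso_hom]
    have e1 : toUnit (𝟙_ (Over (Spec (CommRingCat.of K)))) = 𝟙 _ := toUnit_unique _ _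
    rw [e1, Category.id_comp, MonObj.comp_mul, MonObj.comp_mul, GrpObj.comp_inv]
    have e2 := map_mul (bcMulEquiv b (𝟙_ (Over (Spec (CommRingCat.of K)))) H) ((φ ≫ h) * (φ ≫ z)) (φ ≫ h)⁻¹
    have e3 := map_mul (bcMulEquiv b (𝟙_ (Over (Spec (CommRingCat.of K)))) H) (φ ≫ h) (φ ≫ z)
    have e4 := map_inv (bcMulEquiv b (𝟙_ (Over (Spec (CommRingCat.of K)))) H) (φ ≫ h)
    rw [e3, e4] at e2
    exact e2
  have hpow : (𝟙 (Red.bc b H) : Red.bc b H ⟶ Red.bc b H) ^ n = (Over.pullback b).map ((𝟙 H : H ⟶ H) ^ n) := by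
    have e1 := map_pow (Functor.homMonoidHom (Over.pullback b) (X := H) (M := H)) (𝟙 H) n
    refine Eq.trans ?_ e1.symm
    congr 1
    exact ((Over.pullback b).map_id H).symm
  have h1 : Near @Etale ((Over.pullback b).map ((𝟙 H : H ⟶ H) ^ n)).left (g.left p) := by
    refine near_of_isPullback (K14.EtFib.isPullback_map b ((𝟙 H : H ⟶ H) ^ n)) (g.left p) ?_
    rw [hpt]
    exact hz p
  have h2 : Near @Etale ((Over.pullback b).map ((𝟙 H : H ⟶ H) ^ n)).left (κ.hom.left (g.left p)) := by
    have : IsIso κ.hom.left := inferInstanceAs (IsIso ((Over.forget _).map κ.hom))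
    refine (near_isoInv (P := @Etale) _ _ κ.hom.left κ.hom.left ?_ (g.left p)).1 h1
    rw [← hpow, ← Over.comp_left, ← Over.comp_left, MonObj.comp_pow, Category.comp_id]
    congr 1
    rw [K13.NTorsion.pow_comp, Category.id_comp]
  have h3 := K14.EtFib.near_etale_of_field ((𝟙 H : H ⟶ H) ^ n) b (κ.hom.left (g.left p)) h2
  have h4 : pullback.fst H.hom b (κ.hom.left (g.left p)) = (h * z * h⁻¹).left p := by
    rw [← hpt, hgκ]
    rfl
  rw [h4] at h3
  exact h3

/-- Conjugation preserves the étale locus of the power map. -/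
theorem conj_mem (n : ℕ) {T : Over S} (z h : T ⟶ H) (hz : ∀ t, z.left t ∈ E H n) (t : T.left) :
    (h * z * h⁻¹).left t ∈ E H n := by
  let K := T.left.residueField t
  let r := T.left.fromSpecResidueField t
  let x : Over.mk (r ≫ T.hom) ⟶ T := Over.homMk r
  have hx : x.left (IsLocalRing.closedPoint K) = t := Scheme.fromSpecResidueField_apply _ _
  have h1 := conj_mem_field n (K := K) (r ≫ T.hom) (x ≫ z) (x ≫ h) (fun p => hz (x.left p))
    (IsLocalRing.closedPoint K)
  rw [← MonObj.comp_mul, ← GrpObj.comp_inv, ← MonObj.comp_mul] at h1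
  rw [← hx]
  exact h1

end field

section sep

variable (H : Over S) [GrpObj H] (n : ℕ)

theorem isSeparated_W [IsSeparated H.hom] : IsSeparated (W H n).hom := by
  have h1 : IsClosedImmersion η[H].left := (Groth.Agent.S0346.result S H).1.mp inferInstance
  have h2 : IsClosedImmersion (pE H n) := MorphismProperty.of_isPullback (isPullback_W H n).flip h1
  rw [← Over.w (j H n), j_left]
  infer_instance

end sep

section central

variable {H : Over S} [GrpObj H] [Flat H.hom] [LocallyOfFinitePresentation H.hom] [IsSeparated H.hom]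
  [GeometricallyIrreducible H.hom]

theorem conj_univ (n : ℕ) : fst H (W H n) * (snd H (W H n) ≫ j H n) * (fst H (W H n))⁻¹ =
    snd H (W H n) ≫ j H n := by
  let c : H ⊗ W H n ⟶ H := fst H (W H n) * (snd H (W H n) ≫ j H n) * (fst H (W H n))⁻¹
  have hc : c ^ n = 1 := by
    rw [conj_pow, comp_j_pow, _root_.mul_one, mul_inv_cancel]
  obtain ⟨α, hα⟩ := exists_fac n c hc (conj_mem n _ _ fun t => j_mem n _ t)
  have hs := isSeparated_W H n
  obtain ⟨V, hV, hV', hVc⟩ := FinEt.exists_open_eq α (snd H (W H n))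
  have hVc := hVc hs
  let σ : W H n ⟶ H ⊗ W H n := lift 1 (𝟙 _)
  have hσ : σ ≫ α = σ ≫ snd H (W H n) := by
    apply eq_of_comp_j
    rw [Category.assoc, hα, lift_snd, Category.id_comp]
    simp only [c, MonObj.comp_mul, GrpObj.comp_inv, σ, lift_fst, lift_snd_assoc, Category.id_comp]
    rw [_root_.one_mul, inv_one, _root_.mul_one]
  have hirr : GeometricallyIrreducible (snd H (W H n)).left :=
    inferInstanceAs (GeometricallyIrreducible (pullback.snd H.hom (W H n).hom))
  have hopen : IsOpenMap (snd H (W H n)).left := by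
    have : Flat (snd H (W H n)).left := inferInstanceAs (Flat (pullback.snd H.hom (W H n).hom))
    have : LocallyOfFinitePresentation (snd H (W H n)).left :=
      inferInstanceAs (LocallyOfFinitePresentation (pullback.snd H.hom (W H n).hom))
    exact (snd H (W H n)).left.isOpenMap
  have hall : ∀ x, x ∈ V := by
    intro x
    let w := (snd H (W H n)).left x
    have h1 := (snd H (W H n)).left.isIrreducible_preimage hopen (isIrreducible_singleton (x := w))
    have h2 : ((snd H (W H n)).left ⁻¹' {w} ∩ V).Nonempty := by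
      refine ⟨σ.left w, ?_, hV' σ.left (congrArg (fun k => k.left) hσ) w⟩
      change (σ ≫ snd H (W H n)).left w = w
      rw [lift_snd]
      rfl
    exact h1.isConnected.isPreconnected.subset_isClopen ⟨hVc, V.2⟩ h2 rfl
  have h3 := FinEt.eq_of_top hV hall
  rw [h3] at hα
  exact hα.symm

/-- **Torsion points in the étale locus of the power map are central.** -/
theorem central (n : ℕ) {X : Over S} (w : X ⟶ W H n) (h : X ⟶ H) : h * (w ≫ j H n) = (w ≫ j H n) * h := by
  have h1 := congrArg (lift h w ≫ ·) (conj_univ (H := H) n)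
  simp only [MonObj.comp_mul, GrpObj.comp_inv, lift_fst, lift_snd_assoc] at h1
  exact mul_inv_eq_iff_eq_mul.1 h1

end central

end K13.HC.WCent
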